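import Cfsg.Agent.Lib.UniDeg48.Eigen
import Cfsg.Agent.Lib.OrthDeg48.Data
import Mathlib.FieldTheory.Finite.Basic

/-!
The minimal degree of the triality groups from the relations of a Heisenberg parabolic.
-/

set_option autoImplicit false
set_option linter.unusedSectionVars false

namespace Cfsg.Agent.Lib.ExcDeg48

open Module Cfsg.Agent.Lib.UniDeg48 Cfsg.Agent.Lib.MinDegree

/-- The relations used: a radical `A·B·C·D·Z`, a Levi root subgroup `u`, tori and Weyl elements. -/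
structure Heis (F K : Type*) [Field F] [Field K] [Algebra F K] (G : Type*) [Group G] where
  /-- The centre. -/
  Z : Multiplicative F →* G
  /-- The lowest root group of the radical. -/
  A : Multiplicative F →* G
  /-- The second root group. -/
  B : Multiplicative K →* G
  /-- The third root group. -/
  C : Multiplicative K →* G
  /-- The highest root group. -/
  D : Multiplicative F →* G
  /-- The trace. -/
  L : K →ₗ[F] F
  /-- The norm. -/
  N : K → F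
  /-- The Levi root group. -/
  u : K → G
  /-- A torus scaling the centre. -/
  h2 : Fˣ → G
  /-- A torus scaling the quotient. -/
  h1 : Fˣ → G
  /-- The torus of the Levi root groups. -/
  hk : Kˣ → G
  /-- A Weyl element moving the centre. -/
  n2 : G
  /-- The Weyl element of the Levi part. -/
  w : G
  /-- A sign. -/
  e : F
  e_ne : e ≠ 0
  L_ne : ∃ x, L x ≠ 0
  zA : ∀ z a, Commute (Z z) (A a)
  zB : ∀ z b, Commute (Z z) (B b)
  zC : ∀ z c, Commute (Z z) (C c)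
  zD : ∀ z d, Commute (Z z) (D d)
  zu : ∀ z t, Commute (Z z) (u t)
  AB : ∀ a b, Commute (A a) (B b)
  AC : ∀ a c, Commute (A a) (C c)
  BD : ∀ b d, Commute (B b) (D d)
  CD : ∀ c d, Commute (C c) (D d)
  uD : ∀ t d, Commute (u t) (D d)
  DA : ∀ a d, D (.ofAdd d) * A (.ofAdd a) = A (.ofAdd a) * D (.ofAdd d) * Z (.ofAdd (a * d))
  CB : ∀ b c, C (.ofAdd c) * B (.ofAdd b) = B (.ofAdd b) * C (.ofAdd c) * Z (.ofAdd (L (b * c)))
  Cu : ∀ t c, C (.ofAdd c) * u t = u t * (C (.ofAdd c) * D (.ofAdd (L (t * c))))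
  Au : ∀ (t a : F), ∃ b c z, A (.ofAdd a) * u (algebraMap F K t) = u (algebraMap F K t) *
    (A (.ofAdd a) * B b * C c * D (.ofAdd (e * t ^ 3 * a)) * Z z)
  h2Z : ∀ (s : Fˣ) z, h2 s * Z (.ofAdd z) = Z (.ofAdd ((s : F) * z)) * h2 s
  h1Z : ∀ (s : Fˣ) z, h1 s * Z (.ofAdd z) = Z (.ofAdd ((s : F) ^ 2 * z)) * h1 s
  h1A : ∀ (s : Fˣ) a, h1 s * A (.ofAdd a) = A (.ofAdd ((s : F) * a)) * h1 s
  h1B : ∀ (s : Fˣ) b, h1 s * B (.ofAdd b) = B (.ofAdd ((s : F) • b)) * h1 s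
  h1C : ∀ (s : Fˣ) c, h1 s * C (.ofAdd c) = C (.ofAdd ((s : F) • c)) * h1 s
  h1D : ∀ (s : Fˣ) d, h1 s * D (.ofAdd d) = D (.ofAdd ((s : F) * d)) * h1 s
  N_ne : ∀ k : Kˣ, N k ≠ 0
  hkZ : ∀ k z, Commute (hk k) (Z z)
  hkA : ∀ (k : Kˣ) a, hk k * A (.ofAdd a) = A (.ofAdd ((N k)⁻¹ * a)) * hk k
  hkB : ∀ (k : Kˣ) b, hk k * B (.ofAdd b) = B (.ofAdd ((N k)⁻¹ • ((k : K) ^ 2 * b))) * hk k
  hkC : ∀ (k : Kˣ) c, hk k * C (.ofAdd c) = C (.ofAdd (N k • ((k : K)⁻¹ ^ 2 * c))) * hk k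
  hkD : ∀ (k : Kˣ) d, hk k * D (.ofAdd d) = D (.ofAdd (N k * d)) * hk k
  n2Z : ∃ e' : F, e' ≠ 0 ∧ ∀ z, n2 * Z (.ofAdd z) = D (.ofAdd (e' * z)) * n2
  wZ : ∃ e' : F, e' ≠ 0 ∧ ∀ z, w * Z (.ofAdd z) = Z (.ofAdd (e' * z)) * w
  wA : ∃ e' : F, e' ≠ 0 ∧ ∀ a, w * A (.ofAdd a) = D (.ofAdd (e' * a)) * w
  wD : ∃ e' : F, e' ≠ 0 ∧ ∀ d, w * D (.ofAdd d) = A (.ofAdd (e' * d)) * w

section Moves

variable {G : Type*} [Group G] {M : Type*} [AddCommGroup M] [Module ℂ M]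
  (ρ : Representation ℂ G M) {W W' : Type*} [AddCommGroup W] [AddCommGroup W']

theorem rep_inj (g : G) : Function.Injective (ρ g) := fun a b h => by
  have := congrArg (ρ g⁻¹) h
  rwa [← Module.End.mul_apply, ← Module.End.mul_apply, ← map_mul, inv_mul_cancel, map_one,
    Module.End.one_apply, Module.End.one_apply] at this

theorem rep_le [FiniteDimensional ℂ M] {P Q : Submodule ℂ M} (g : G) (h : ∀ z ∈ P, ρ g z ∈ Q) :
    finrank ℂ P ≤ finrank ℂ Q :=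
  LinearMap.finrank_le_finrank_of_injective (f := (ρ g).restrict h) fun a b hab =>
    Subtype.ext (rep_inj ρ g (congrArg Subtype.val hab))

/-- An element conjugating one family into another moves eigenspaces. -/
theorem move (τ : Multiplicative W →* G) (τ' : Multiplicative W' →* G) (g : G) (χ : AddChar W ℂ)
    (χ' : AddChar W' ℂ) (h : ∀ a, ∃ b, τ' (.ofAdd a) * g = g * τ (.ofAdd b) ∧ χ b = χ' a) {z : M}
    (hz : z ∈ eigSub ρ τ χ) : ρ g z ∈ eigSub ρ τ' χ' := by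
  rw [mem_eigSub] at hz ⊢
  intro a
  obtain ⟨b, hb, hc⟩ := h a
  rw [← Module.End.mul_apply, ← map_mul, hb, map_mul, Module.End.mul_apply, hz, map_smul, hc]

theorem mem_one {τ : Multiplicative W →* G} {z : M} (hz : z ∈ eigSub ρ τ 1) (x : Multiplicative W) :
    ρ (τ x) z = z := by
  have := (mem_eigSub ρ τ).1 hz x.toAdd
  rwa [AddChar.one_apply, one_smul] at this

theorem conj_two (τ : Multiplicative W →* G) {g g' : G} {f f' : W → W}
    (hf : ∀ a, g * τ (.ofAdd a) = τ (.ofAdd (f a)) * g)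
    (hf' : ∀ a, g' * τ (.ofAdd a) = τ (.ofAdd (f' a)) * g') (a : W) :
    τ (.ofAdd (f' (f a))) * (g' * g) = g' * g * τ (.ofAdd a) := by
  rw [mul_assoc g', hf, ← mul_assoc g', hf', mul_assoc]

theorem exists_shift [Fintype W] {F : Type*} [Field F] [Fintype F] {ν : AddChar F ℂ} (hν : ν ≠ 1)
    (T : W → W →+ F) (hT : ∀ a b, (∀ x, T a x = T b x) → a = b)
    (hlin : ∀ a x (s : F), ∃ y, T a y = s * T a x) (hsub : ∀ a b, ∃ c, ∀ x, T c x = T a x - T b x)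
    (χ : AddChar W ℂ) : ∃ a, ν.compAddMonoidHom (T a) = χ := by
  classical
  have hinj : Function.Injective fun a => ν.compAddMonoidHom (T a) := by
    intro a b h
    refine hT a b fun x => ?_
    obtain ⟨c, hc⟩ := hsub a b
    by_contra hne
    obtain ⟨y, hy⟩ : ∃ y, ν y ≠ 1 := by
      by_contra hcon
      push Not at hcon
      exact hν (DFunLike.ext _ _ fun y => by rw [hcon, AddChar.one_apply])
    obtain ⟨x', hx'⟩ := hlin c x (y * (T a x - T b x)⁻¹)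
    rw [hc, hc, mul_assoc, inv_mul_cancel₀ (sub_ne_zero.2 hne), mul_one] at hx'
    have h' : ν (T a x') = ν (T b x') := DFunLike.congr_fun h x'
    refine hy ?_
    rw [← hx', sub_eq_add_neg, AddChar.map_add_eq_mul, h', ← AddChar.map_add_eq_mul,
      add_neg_cancel, AddChar.map_zero_eq_one]
  exact ((Fintype.bijective_iff_injective_and_card _).2 ⟨hinj, AddChar.card_eq.symm⟩).2 χ

end Moves

variable {F K : Type*} [Field F] [Fintype F] [Field K] [Fintype K] [Algebra F K]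
  {G : Type*} [Group G] (S : Heis F K G)
  {M : Type*} [AddCommGroup M] [Module ℂ M] [FiniteDimensional ℂ M]
  (ρ : Representation ℂ G M)

namespace Heis

theorem L_pair {b : K} (hb : b ≠ 0) (y : F) : ∃ c, S.L (b * c) = y := by
  obtain ⟨x, hx⟩ := S.L_ne
  refine ⟨b⁻¹ * ((y * (S.L x)⁻¹) • x), ?_⟩
  rw [← mul_assoc, mul_inv_cancel₀ hb, one_mul, map_smul, smul_eq_mul, mul_assoc, inv_mul_cancel₀ hx,
    mul_one]

/-- The trace shifts give every character of `K`. -/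
theorem exists_L {ν : AddChar F ℂ} (hν : ν ≠ 1) (χ : AddChar K ℂ) :
    ∃ b, ∀ c, χ c = ν (S.L (b * c)) := by
  obtain ⟨b, hb⟩ := exists_shift (W := K) hν
    (fun b => S.L.toAddMonoidHom.comp (AddMonoidHom.mulLeft b))
    (fun a b h => by
      by_contra hne
      obtain ⟨c, hc⟩ := S.L_pair (sub_ne_zero.2 hne) 1
      have h' : S.L (a * c) = S.L (b * c) := h c
      rw [sub_mul, map_sub, h', sub_self] at hc
      exact zero_ne_one hc)
    (fun a x s => ⟨s • x, by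
      show S.L (a * s • x) = s * S.L (a * x)
      rw [mul_smul_comm, map_smul, smul_eq_mul]⟩)
    (fun a b => ⟨a - b, fun x => by
      show S.L ((a - b) * x) = S.L (a * x) - S.L (b * x)
      rw [sub_mul, map_sub]⟩)
    χ
  exact ⟨b, fun c => by rw [← hb]; rfl⟩

/-- The fixed space of the centre in an eigenspace of `D`. -/
def Lay (μ : AddChar F ℂ) : Submodule ℂ M := eigSub ρ S.Z 1 ⊓ eigSub ρ S.D μ

theorem mem_Lay {μ : AddChar F ℂ} {z : M} :
    z ∈ S.Lay ρ μ ↔ z ∈ eigSub ρ S.Z 1 ∧ z ∈ eigSub ρ S.D μ := Submodule.mem_inf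

theorem Z_fix {μ : AddChar F ℂ} {z : M} (hz : z ∈ S.Lay ρ μ) (x : Multiplicative F) :
    ρ (S.Z x) z = z := mem_one ρ hz.1 x

theorem A_lay {μ : AddChar F ℂ} {z : M} (hz : z ∈ S.Lay ρ μ) (a : Multiplicative F) :
    ρ (S.A a) z ∈ S.Lay ρ μ := by
  refine ⟨map_eigSub ρ S.Z _ (fun x => (S.zA _ a).symm) hz.1, ?_⟩
  rw [SetLike.mem_coe, mem_eigSub]
  intro d
  have h : ρ (S.D (.ofAdd d)) (ρ (S.A (.ofAdd a.toAdd)) z) = μ d • ρ (S.A (.ofAdd a.toAdd)) z := by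
    rw [← Module.End.mul_apply, ← map_mul, S.DA, map_mul, map_mul, Module.End.mul_apply,
      Module.End.mul_apply, S.Z_fix ρ hz, (mem_eigSub ρ S.D).1 hz.2, map_smul]
  exact h

/-- The common dimension: `dim M = E₀ + (q−1)(q⁴ + q³)m`. -/
theorem exists_dim {c : ℕ} (hF : Fintype.card F = c) (hK : Fintype.card K = c ^ 3)
    (hnt : ∃ z, ρ (S.Z z) ≠ 1) :
    ∃ m, 0 < m ∧ finrank ℂ M = finrank ℂ (S.Lay ρ 1) + (c - 1) * (c ^ 3 * m) + (c - 1) * (c ^ 4 * m) ∧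
      ∀ μ : AddChar F ℂ, μ ≠ 1 →
        finrank ℂ (S.Lay ρ μ ⊓ eigSub ρ S.C 1 : Submodule ℂ M) = m := by
  classical
  have hnt' : Nontrivial (AddChar F ℂ) := by
    rw [← Fintype.one_lt_card_iff_nontrivial, AddChar.card_eq]
    exact Fintype.one_lt_card
  obtain ⟨ν0, hν0⟩ := exists_ne (1 : AddChar F ℂ)
  have hcF : Fintype.card (AddChar F ℂ) = c := by rw [AddChar.card_eq, hF]
  have hcK : Fintype.card (AddChar K ℂ) = c ^ 3 := by rw [AddChar.card_eq, hK]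
  have hshift : ∀ {ν : AddChar F ℂ}, ν ≠ 1 → ∀ μ : AddChar F ℂ, ∃ a, ν.mulShift a = μ := fun hν μ =>
    ((Fintype.bijective_iff_injective_and_card _).2
      ⟨AddChar.to_mulShift_inj_of_isPrimitive (AddChar.IsPrimitive.of_ne_one hν),
        AddChar.card_eq.symm⟩).2 μ
  -- all non-trivial central characters occur equally
  have hconst : ∀ ν ν' : AddChar F ℂ, ν ≠ 1 → ν' ≠ 1 →
      finrank ℂ (eigSub ρ S.Z ν) ≤ finrank ℂ (eigSub ρ S.Z ν') := by
    intro ν ν' hν hν'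
    obtain ⟨s, hs⟩ := hshift hν ν'
    have hs0 : s ≠ 0 := fun h => hν' (by rw [← hs, h, AddChar.mulShift_zero])
    refine rep_le ρ (S.h2 (Units.mk0 s⁻¹ (inv_ne_zero hs0))) fun z hz => ?_
    refine move ρ _ _ _ ν ν' (fun a => ⟨s * a, ?_, by rw [← hs, AddChar.mulShift_apply]⟩) hz
    rw [S.h2Z, Units.val_mk0, ← mul_assoc, inv_mul_cancel₀ hs0, one_mul]
  set d := finrank ℂ (eigSub ρ S.Z ν0) with hd
  have hd' : ∀ ν : AddChar F ℂ, ν ≠ 1 → finrank ℂ (eigSub ρ S.Z ν) = d := fun ν hν =>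
    le_antisymm (hconst ν ν0 hν hν0) (hconst ν0 ν hν0 hν)
  have hsplit : finrank ℂ M = finrank ℂ (eigSub ρ S.Z 1) + (c - 1) * d := by
    rw [← sum_finrank_eigSub ρ S.Z, ← Finset.add_sum_erase _ _ (Finset.mem_univ (1 : AddChar F ℂ)),
      Finset.sum_congr rfl (fun ν hν => hd' ν (Finset.ne_of_mem_erase hν)), Finset.sum_const,
      Finset.card_erase_of_mem (Finset.mem_univ _), Finset.card_univ, hcF, smul_eq_mul]
  -- inside one central eigenspace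
  have hZinv : ∀ ν, ∀ g : G, (∀ z, Commute g (S.Z z)) → ∀ z ∈ eigSub ρ S.Z ν, ρ g z ∈ eigSub ρ S.Z ν :=
    fun ν g hg z hz => map_eigSub ρ S.Z g (fun a => hg _) hz
  have hDν : ∀ ν : AddChar F ℂ, ν ≠ 1 → ∀ μ, finrank ℂ (eigSub ρ S.Z ν ⊓ eigSub ρ S.D μ : Submodule ℂ M) =
      finrank ℂ (eigSub ρ S.Z ν ⊓ eigSub ρ S.D 1 : Submodule ℂ M) := by
    intro ν hν
    have key : ∀ (a : F) (μ : AddChar F ℂ), ∀ z ∈ (eigSub ρ S.Z ν ⊓ eigSub ρ S.D μ : Submodule ℂ M),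
        ρ (S.A (.ofAdd a)) z ∈ (eigSub ρ S.Z ν ⊓ eigSub ρ S.D (μ * ν.mulShift a) : Submodule ℂ M) := by
      intro a μ z hz
      refine ⟨hZinv ν _ (fun x => (S.zA x _).symm) z hz.1, ?_⟩
      rw [SetLike.mem_coe, mem_eigSub]
      intro x
      rw [← Module.End.mul_apply, ← map_mul, S.DA, map_mul, map_mul, Module.End.mul_apply,
        Module.End.mul_apply, (mem_eigSub ρ S.Z).1 hz.1, map_smul, (mem_eigSub ρ S.D).1 hz.2,
        smul_smul, map_smul, AddChar.mul_apply, AddChar.mulShift_apply, mul_comm (μ x)]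
    intro μ
    obtain ⟨a, rfl⟩ := hshift hν μ
    refine le_antisymm (rep_le ρ (S.A (.ofAdd (-a))) fun z hz => ?_)
      (rep_le ρ (S.A (.ofAdd a)) fun z hz => ?_)
    · have h := key (-a) _ z hz
      rwa [AddChar.mulShift_mul, add_neg_cancel, AddChar.mulShift_zero] at h
    · have h := key a 1 z hz
      rwa [one_mul] at h
  set x : AddChar F ℂ → ℕ := fun ν => finrank ℂ (eigSub ρ S.Z ν ⊓ eigSub ρ S.D 1 : Submodule ℂ M)
  have hdx : ∀ ν : AddChar F ℂ, ν ≠ 1 → c * x ν = d := by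
    intro ν hν
    rw [← hd' ν hν, ← OrthDeg48.sum_inf_eig ρ S.D (eigSub ρ S.Z ν)
      (fun a z hz => hZinv ν _ (fun y => (S.zD y a).symm) z hz),
      Finset.sum_congr rfl (fun μ _ => hDν ν hν μ), Finset.sum_const, Finset.card_univ, hcF,
      smul_eq_mul]
  have hc0 : 0 < c := hF ▸ Fintype.card_pos
  -- the layers of the fixed space of the centre
  obtain ⟨e', he', hn2⟩ := S.n2Z
  have hDμ : ∀ μ : AddChar F ℂ, μ ≠ 1 → finrank ℂ (eigSub ρ S.D μ) = d := by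
    intro μ hμ
    have hν : μ.mulShift e' ≠ 1 := AddChar.IsPrimitive.of_ne_one hμ he'
    rw [← hd' _ hν]
    have hn2' : ∀ z, S.n2⁻¹ * S.D (.ofAdd (e' * z)) = S.Z (.ofAdd z) * S.n2⁻¹ := fun z => by
      rw [inv_mul_eq_iff_eq_mul, ← mul_assoc, hn2, mul_inv_cancel_right]
    refine le_antisymm (rep_le ρ S.n2⁻¹ fun z hz => ?_) (rep_le ρ S.n2 fun z hz => ?_)
    · exact move ρ _ _ _ μ _ (fun a => ⟨e' * a, (hn2' a).symm,
        by rw [AddChar.mulShift_apply]⟩) hz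
    · refine move ρ _ _ _ (μ.mulShift e') μ (fun a => ⟨e'⁻¹ * a, ?_, ?_⟩) hz
      · rw [hn2, ← mul_assoc e', mul_inv_cancel₀ he', one_mul]
      · rw [AddChar.mulShift_apply, ← mul_assoc, mul_inv_cancel₀ he', one_mul]
  have hlay : ∀ μ : AddChar F ℂ, μ ≠ 1 → c * finrank ℂ (S.Lay ρ μ) = d := by
    intro μ hμ
    have h := OrthDeg48.sum_inf_eig ρ S.Z (eigSub ρ S.D μ)
      (fun a z hz => map_eigSub ρ S.D _ (fun y => S.zD a _) hz)
    rw [hDμ μ hμ, ← Finset.add_sum_erase _ _ (Finset.mem_univ (1 : AddChar F ℂ))] at h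
    have h' : c * (∑ ν ∈ Finset.univ.erase (1 : AddChar F ℂ),
        finrank ℂ (eigSub ρ S.D μ ⊓ eigSub ρ S.Z ν : Submodule ℂ M)) = (c - 1) * d := by
      rw [Finset.mul_sum, Finset.sum_congr rfl (g := fun _ => d) (fun ν hν => ?_), Finset.sum_const,
        Finset.card_erase_of_mem (Finset.mem_univ _), Finset.card_univ, hcF, smul_eq_mul]
      rw [inf_comm, hDν ν (Finset.ne_of_mem_erase hν), hdx ν (Finset.ne_of_mem_erase hν)]
    rw [inf_comm] at h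
    have h2 := congrArg (c * ·) h
    simp only [mul_add, h'] at h2
    have h3 : c * d = d + (c - 1) * d := by
      conv_rhs => rw [add_comm, ← Nat.succ_mul, Nat.succ_eq_add_one, Nat.sub_add_cancel hc0]
    show c * finrank ℂ (eigSub ρ S.Z 1 ⊓ eigSub ρ S.D μ : Submodule ℂ M) = d
    omega
  -- refine by `C`
  have hCinv : ∀ μ, ∀ a, ∀ z ∈ S.Lay ρ μ, ρ (S.C a) z ∈ S.Lay ρ μ := fun μ a z hz =>
    ⟨hZinv 1 _ (fun y => (S.zC y a).symm) z hz.1, map_eigSub ρ S.D _ (fun y => S.CD a _) hz.2⟩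
  have hCμ : ∀ μ : AddChar F ℂ, μ ≠ 1 → c ^ 3 * finrank ℂ (S.Lay ρ μ ⊓ eigSub ρ S.C 1 : Submodule ℂ M) =
      finrank ℂ (S.Lay ρ μ) := by
    intro μ hμ
    have key : ∀ (t : K) (χ : AddChar K ℂ), ∀ z ∈ (S.Lay ρ μ ⊓ eigSub ρ S.C χ : Submodule ℂ M),
        ρ (S.u t) z ∈ (S.Lay ρ μ ⊓
          eigSub ρ S.C (χ * μ.compAddMonoidHom (S.L.toAddMonoidHom.comp (AddMonoidHom.mulLeft t))) :
            Submodule ℂ M) := by
      intro t χ z hz
      refine ⟨⟨hZinv 1 _ (fun y => (S.zu y t).symm) z hz.1.1,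
        map_eigSub ρ S.D _ (fun y => S.uD t _) hz.1.2⟩, ?_⟩
      rw [SetLike.mem_coe, mem_eigSub]
      intro y
      rw [← Module.End.mul_apply, ← map_mul, S.Cu, map_mul, map_mul, Module.End.mul_apply,
        Module.End.mul_apply, (mem_eigSub ρ S.D).1 hz.1.2, map_smul, (mem_eigSub ρ S.C).1 hz.2,
        smul_smul, map_smul, AddChar.mul_apply, mul_comm (χ y)]
      rfl
    have heq : ∀ χ : AddChar K ℂ, finrank ℂ (S.Lay ρ μ ⊓ eigSub ρ S.C χ : Submodule ℂ M) =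
        finrank ℂ (S.Lay ρ μ ⊓ eigSub ρ S.C 1 : Submodule ℂ M) := by
      intro χ
      obtain ⟨b, hb⟩ := S.exists_L hμ χ
      have e1 : χ = μ.compAddMonoidHom (S.L.toAddMonoidHom.comp (AddMonoidHom.mulLeft b)) :=
        DFunLike.ext _ _ hb
      refine le_antisymm (rep_le ρ (S.u (-b)) fun z hz => ?_) (rep_le ρ (S.u b) fun z hz => ?_)
      · convert key (-b) χ z hz using 3
        ext y
        simp only [AddChar.one_apply, AddChar.mul_apply, hb y, AddChar.compAddMonoidHom_apply,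
          AddMonoidHom.comp_apply, AddMonoidHom.coe_mulLeft, LinearMap.toAddMonoidHom_coe,
          neg_mul, map_neg, ← AddChar.map_add_eq_mul, add_neg_cancel, AddChar.map_zero_eq_one]
      · have h := key b 1 z hz
        rwa [one_mul, ← e1] at h
    rw [← OrthDeg48.sum_inf_eig ρ S.C (S.Lay ρ μ) (hCinv μ), Finset.sum_congr rfl (fun χ _ => heq χ),
      Finset.sum_const, Finset.card_univ, hcK, smul_eq_mul]
  set m := finrank ℂ (S.Lay ρ ν0 ⊓ eigSub ρ S.C 1 : Submodule ℂ M) with hm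
  have hdm : c ^ 4 * m = d := by
    rw [← hlay ν0 hν0, ← hCμ ν0 hν0, hm]
    ring
  refine ⟨m, ?_, ?_, fun μ hμ => ?_⟩
  · rcases Nat.eq_zero_or_pos m with h0 | h0
    · exfalso
      rw [h0, mul_zero] at hdm
      obtain ⟨z, hz⟩ := hnt
      rw [← hdm, mul_zero, add_zero] at hsplit
      have htop := Submodule.eq_top_of_finrank_eq hsplit.symm
      refine hz (LinearMap.ext fun v => ?_)
      rw [Module.End.one_apply]
      exact mem_one ρ (htop ▸ Submodule.mem_top) z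
    · exact h0
  · rw [hsplit, ← OrthDeg48.sum_inf_eig ρ S.D (eigSub ρ S.Z 1)
      (fun a z hz => hZinv 1 _ (fun y => (S.zD y a).symm) z hz),
      ← Finset.add_sum_erase _ _ (Finset.mem_univ (1 : AddChar F ℂ))]
    rw [Finset.sum_congr rfl (g := fun _ => c ^ 3 * m) (fun μ hμ => ?_), Finset.sum_const,
      Finset.card_erase_of_mem (Finset.mem_univ _), Finset.card_univ, hcF, smul_eq_mul, ← hdm]
    · rfl
    · refine Nat.eq_of_mul_eq_mul_left hc0 ?_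
      show c * finrank ℂ (S.Lay ρ μ) = _
      rw [hlay μ (Finset.ne_of_mem_erase hμ), ← hdm]
      ring
  · refine Nat.eq_of_mul_eq_mul_left (pow_pos hc0 4) ?_
    rw [hdm, ← hlay μ hμ, ← hCμ μ hμ]
    ring

/-- A line in a layer is an eigenline of a root group preserving it. -/
theorem exists_char {W : Type*} [AddCommGroup W] [Fintype W] (τ : Multiplicative W →* G)
    (R : Submodule ℂ M) (h1 : finrank ℂ R = 1) (hR : ∀ a, ∀ z ∈ R, ρ (τ a) z ∈ R) :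
    ∃ χ : AddChar W ℂ, R ≤ eigSub ρ τ χ := by
  classical
  obtain ⟨χ, -, hχ⟩ : ∃ χ ∈ (Finset.univ : Finset (AddChar W ℂ)),
      finrank ℂ (R ⊓ eigSub ρ τ χ : Submodule ℂ M) ≠ 0 :=
    Finset.exists_ne_zero_of_sum_ne_zero (by rw [OrthDeg48.sum_inf_eig ρ τ R hR, h1]; exact one_ne_zero)
  refine ⟨χ, ?_⟩
  have h := Submodule.eq_of_le_of_finrank_le (inf_le_left : R ⊓ eigSub ρ τ χ ≤ R)
    (by rw [h1]; omega)
  exact h ▸ inf_le_right

/-- A vector of a layer fixed by `A` gives the last part of the bound. -/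
theorem layer_one_ge {c : ℕ} (hF : Fintype.card F = c) {μ : AddChar F ℂ} (hμ : μ ≠ 1) {v : M}
    (hv : v ∈ S.Lay ρ μ) (hv0 : v ≠ 0) (hA : v ∈ eigSub ρ S.A 1) :
    c - 1 ≤ finrank ℂ (S.Lay ρ 1) := by
  classical
  obtain ⟨e1, he1, hwZ⟩ := S.wZ
  obtain ⟨e2, he2, hwA⟩ := S.wA
  obtain ⟨e3, he3, hwD⟩ := S.wD
  set v' := ρ S.w v
  set α0 := μ.mulShift e3⁻¹ with hα0
  have hα0ne : α0 ≠ 1 := AddChar.IsPrimitive.of_ne_one hμ (inv_ne_zero he3)
  have hv' : v' ∈ S.Lay ρ 1 := by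
    refine ⟨move ρ _ _ _ 1 1 (fun a => ⟨e1⁻¹ * a, ?_, rfl⟩) hv.1,
      move ρ _ _ _ 1 1 (fun a => ⟨e2⁻¹ * a, ?_, rfl⟩) hA⟩
    · rw [hwZ, ← mul_assoc e1, mul_inv_cancel₀ he1, one_mul]
    · rw [hwA, ← mul_assoc e2, mul_inv_cancel₀ he2, one_mul]
  have hv'A : v' ∈ eigSub ρ S.A α0 :=
    move ρ _ _ _ μ _ (fun a => ⟨e3⁻¹ * a,
      by rw [hwD, ← mul_assoc e3, mul_inv_cancel₀ he3, one_mul],
      by rw [hα0, AddChar.mulShift_apply]⟩) hv.2
  have hall : ∀ χ : AddChar F ℂ, χ ≠ 1 →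
      1 ≤ finrank ℂ (S.Lay ρ 1 ⊓ eigSub ρ S.A χ : Submodule ℂ M) := by
    intro χ hχ
    obtain ⟨s, hs⟩ := ((Fintype.bijective_iff_injective_and_card _).2
      ⟨AddChar.to_mulShift_inj_of_isPrimitive (AddChar.IsPrimitive.of_ne_one hα0ne),
        AddChar.card_eq.symm⟩).2 χ
    have hs0 : s ≠ 0 := fun h => hχ (by rw [← hs, h]; exact AddChar.mulShift_zero _)
    set g := S.h1 (Units.mk0 s⁻¹ (inv_ne_zero hs0))
    refine Module.finrank_pos_iff.2 (Submodule.nontrivial_iff_ne_bot.2 fun h => ?_)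
    have hm : ρ g v' ∈ (S.Lay ρ 1 ⊓ eigSub ρ S.A χ : Submodule ℂ M) := by
      refine ⟨⟨move ρ _ _ _ 1 1 (fun a => ⟨s ^ 2 * a, ?_, rfl⟩) hv'.1,
        move ρ _ _ _ 1 1 (fun a => ⟨s * a, ?_, rfl⟩) hv'.2⟩,
        move ρ _ _ _ α0 χ (fun a => ⟨s * a, ?_, by rw [← hs]; rfl⟩) hv'A⟩
      · rw [S.h1Z, Units.val_mk0, ← mul_assoc, ← mul_pow, inv_mul_cancel₀ hs0, one_pow, one_mul]
      · rw [S.h1D, Units.val_mk0, ← mul_assoc, inv_mul_cancel₀ hs0, one_mul]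
      · rw [S.h1A, Units.val_mk0, ← mul_assoc, inv_mul_cancel₀ hs0, one_mul]
    rw [h, Submodule.mem_bot] at hm
    exact hv0 (rep_inj ρ S.w ((rep_inj ρ g (hm.trans (map_zero _).symm)).trans (map_zero _).symm))
  rw [← OrthDeg48.sum_inf_eig ρ S.A (S.Lay ρ 1) (fun a z hz => S.A_lay ρ hz a),
    ← Finset.add_sum_erase _ _ (Finset.mem_univ (1 : AddChar F ℂ))]
  calc c - 1 = ∑ _χ ∈ Finset.univ.erase (1 : AddChar F ℂ), 1 := by
        rw [Finset.sum_const, Finset.card_erase_of_mem (Finset.mem_univ _), Finset.card_univ,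
          AddChar.card_eq, hF, smul_eq_mul, mul_one]
    _ ≤ ∑ χ ∈ Finset.univ.erase (1 : AddChar F ℂ),
        finrank ℂ (S.Lay ρ 1 ⊓ eigSub ρ S.A χ : Submodule ℂ M) :=
      Finset.sum_le_sum fun χ hχ => hall χ (Finset.ne_of_mem_erase hχ)
    _ ≤ _ := Nat.le_add_left _ _

/-- The bound. -/
theorem d4_bound {c : ℕ} (hc : 2 ≤ c) (hF : Fintype.card F = c) (hK : Fintype.card K = c ^ 3)
    (hN : ∃ k : Kˣ, (k : K) ^ 2 ≠ 1 ∧ (4 ≤ c → S.N k ^ 2 ≠ 1))
    (hnt : ∃ z, ρ (S.Z z) ≠ 1)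
    (hdim : finrank ℂ M ≠ (c - 1) * (c ^ 4 + c ^ 3 + 1)) :
    c * (c ^ 4 - c ^ 2 + 1) ≤ finrank ℂ M := by
  classical
  have htarget : c * (c ^ 4 - c ^ 2 + 1) = (c - 1) * (c ^ 4 + c ^ 3 + 1) + 1 := by
    have h24 : c ^ 2 ≤ c ^ 4 := Nat.pow_le_pow_right (by omega) (by omega)
    zify [h24, show 1 ≤ c by omega]
    ring
  obtain ⟨m, hm0, hsum, hline⟩ := S.exists_dim ρ hF hK hnt
  rw [htarget]
  have hexp : ∀ j : ℕ, (c - 1) * (c ^ 3 * j) + (c - 1) * (c ^ 4 * j) = (c - 1) * (c ^ 4 + c ^ 3) * j :=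
    fun j => by ring
  rcases Nat.lt_or_ge m 2 with hm2 | hm2
  swap
  · have h1 : (c - 1) * (c ^ 4 + c ^ 3) * 2 ≤ (c - 1) * (c ^ 4 + c ^ 3) * m :=
      Nat.mul_le_mul_left _ hm2
    have h2 : c ≤ (c - 1) * (c ^ 4 + c ^ 3) :=
      le_trans (le_trans (Nat.le_self_pow (by omega) c) (Nat.le_add_left _ (c ^ 4)))
        (Nat.le_mul_of_pos_left _ (by omega))
    have h3 : (c - 1) * (c ^ 4 + c ^ 3 + 1) = (c - 1) * (c ^ 4 + c ^ 3) + (c - 1) := by ring
    have h4 := hexp m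
    omega
  obtain rfl : m = 1 := by omega
  suffices hlow : c - 1 ≤ finrank ℂ (S.Lay ρ 1) by
    have h3 : (c - 1) * (c ^ 4 + c ^ 3 + 1) = (c - 1) * (c ^ 4 + c ^ 3) + (c - 1) := by ring
    have h4 := hexp 1
    omega
  have hnt' : Nontrivial (AddChar F ℂ) := by
    rw [← Fintype.one_lt_card_iff_nontrivial, AddChar.card_eq]
    exact Fintype.one_lt_card
  obtain ⟨μ, hμ⟩ := exists_ne (1 : AddChar F ℂ)
  set R : Submodule ℂ M := S.Lay ρ μ ⊓ eigSub ρ S.C 1 with hRdef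
  have hR1 : finrank ℂ R = 1 := hline μ hμ
  obtain ⟨v, hv, hv0⟩ := Submodule.exists_mem_ne_zero_of_ne_bot
    (show R ≠ ⊥ from fun h => by rw [h, finrank_bot] at hR1; exact zero_ne_one hR1)
  by_contra hlow
  have hnone : ∀ z ∈ S.Lay ρ μ, z ∈ eigSub ρ S.A 1 → z = 0 := fun z hz hA => by
    by_contra hz0
    exact hlow (S.layer_one_ge ρ hF hμ hz hz0 hA)
  have hAR : ∀ a, ∀ z ∈ R, ρ (S.A a) z ∈ R := fun a z hz =>
    ⟨S.A_lay ρ hz.1 a, map_eigSub ρ S.C _ (fun y => S.AC a _) hz.2⟩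
  have hBR : ∀ b, ∀ z ∈ R, ρ (S.B b) z ∈ R := fun b z hz => by
    refine ⟨⟨map_eigSub ρ S.Z _ (fun y => (S.zB _ b).symm) hz.1.1,
      map_eigSub ρ S.D _ (fun y => S.BD b _) hz.1.2⟩, ?_⟩
    rw [SetLike.mem_coe, mem_eigSub]
    intro y
    have h : ρ (S.C (.ofAdd y)) (ρ (S.B (.ofAdd b.toAdd)) z) =
        (1 : AddChar K ℂ) y • ρ (S.B (.ofAdd b.toAdd)) z := by
      rw [← Module.End.mul_apply, ← map_mul, S.CB, map_mul, map_mul, Module.End.mul_apply,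
        Module.End.mul_apply, S.Z_fix ρ hz.1, mem_one ρ hz.2, AddChar.one_apply, one_smul]
    exact h
  obtain ⟨α, hα⟩ := exists_char ρ S.A R hR1 hAR
  obtain ⟨β, hβ⟩ := exists_char ρ S.B R hR1 hBR
  have hα1 : α ≠ 1 := fun h => hv0 (hnone v hv.1 (h ▸ hα hv))
  -- the torus fixes the line
  have htor : ∀ k : Kˣ, (∀ a, α ((S.N k ^ 2)⁻¹ * a) = α a) ∧
      ∀ b, β ((S.N k ^ 2)⁻¹ • ((k : K) ^ 2 * b)) = β b := by
    intro k
    set s : Fˣ := Units.mk0 (S.N k)⁻¹ (inv_ne_zero (S.N_ne k))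
    set g := S.h1 s * S.hk k
    have hgR : ∀ z ∈ R, ρ g z ∈ R := by
      intro z hz
      refine ⟨⟨move ρ _ _ _ 1 1 (fun a => ⟨S.N k ^ 2 * a, ?_, rfl⟩) hz.1.1,
        move ρ _ _ _ μ μ (fun a => ⟨a, ?_, rfl⟩) hz.1.2⟩,
        move ρ _ _ _ 1 1 (fun a => ⟨(k : K) ^ 2 * a, ?_, rfl⟩) hz.2⟩
      · have h := conj_two S.Z (f := fun a => a) (fun a => (S.hkZ k _).eq) (S.h1Z s) (S.N k ^ 2 * a)
        rwa [Units.val_mk0, ← mul_assoc ((S.N k)⁻¹ ^ 2), ← mul_pow, inv_mul_cancel₀ (S.N_ne k),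
          one_pow, one_mul] at h
      · have h := conj_two S.D (S.hkD k) (S.h1D s) a
        rwa [Units.val_mk0, ← mul_assoc ((S.N k)⁻¹), inv_mul_cancel₀ (S.N_ne k), one_mul] at h
      · have h := conj_two S.C (S.hkC k) (S.h1C s) ((k : K) ^ 2 * a)
        rwa [Units.val_mk0, smul_smul, inv_mul_cancel₀ (S.N_ne k), one_smul,
          ← mul_assoc ((k : K)⁻¹ ^ 2), inv_pow, inv_mul_cancel₀ (pow_ne_zero 2 k.ne_zero),
          one_mul] at h
    have hg0 : ρ g v ≠ 0 := fun h => hv0 (rep_inj ρ g (h.trans (map_zero _).symm))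
    refine ⟨fun a => smul_left_injective ℂ hg0 ?_, fun b => smul_left_injective ℂ hg0 ?_⟩
    · have h := conj_two S.A (S.hkA k) (S.h1A s) a
      rw [Units.val_mk0, ← mul_assoc (S.N k)⁻¹, ← sq, inv_pow] at h
      show α ((S.N k ^ 2)⁻¹ * a) • ρ g v = α a • ρ g v
      rw [← (mem_eigSub ρ S.A).1 (hα (hgR v hv)), ← Module.End.mul_apply, ← map_mul, h, map_mul,
        Module.End.mul_apply, (mem_eigSub ρ S.A).1 (hα hv), map_smul]
    · have h := conj_two S.B (S.hkB k) (S.h1B s) b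
      rw [Units.val_mk0, smul_smul, ← sq, inv_pow] at h
      show β ((S.N k ^ 2)⁻¹ • ((k : K) ^ 2 * b)) • ρ g v = β b • ρ g v
      rw [← (mem_eigSub ρ S.B).1 (hβ (hgR v hv)), ← Module.End.mul_apply, ← map_mul, h, map_mul,
        Module.End.mul_apply, (mem_eigSub ρ S.B).1 (hβ hv), map_smul]
  obtain ⟨k, hk2, hkN⟩ := hN
  have hN2 : ∀ k : Kˣ, S.N k ^ 2 = 1 := fun k => by
    by_contra hne
    refine hne (inv_eq_one.1 (AddChar.to_mulShift_inj_of_isPrimitive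
      (AddChar.IsPrimitive.of_ne_one hα1) ?_))
    ext a
    rw [AddChar.mulShift_apply, AddChar.mulShift_apply, one_mul]
    exact (htor k).1 a
  have hc3 : c ≤ 3 := by
    by_contra h
    exact hkN (by omega) (hN2 k)
  have hβ1 : β = 1 := by
    by_contra hne
    refine hk2 (AddChar.to_mulShift_inj_of_isPrimitive (AddChar.IsPrimitive.of_ne_one hne) ?_)
    ext b
    rw [AddChar.mulShift_apply, AddChar.mulShift_apply, one_mul]
    have h := (htor k).2 b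
    rwa [hN2, inv_one, one_smul] at h
  subst hβ1
  -- shear the line
  obtain ⟨r, hr⟩ := ((Fintype.bijective_iff_injective_and_card _).2
    ⟨AddChar.to_mulShift_inj_of_isPrimitive (AddChar.IsPrimitive.of_ne_one hμ),
      AddChar.card_eq.symm⟩).2 α
  set t := -r * S.e⁻¹ with ht
  have ht3 : t ^ 3 = t := by
    have h := FiniteField.pow_card t
    rw [hF] at h
    rcases (show c = 2 ∨ c = 3 by omega) with rfl | rfl
    · rw [pow_succ, h, ← sq, h]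
    · exact h
  set g := S.u (algebraMap F K t)
  have hgLay : ρ g v ∈ S.Lay ρ μ :=
    ⟨map_eigSub ρ S.Z _ (fun y => (S.zu _ _).symm) hv.1.1, map_eigSub ρ S.D _ (fun y => S.uD _ _) hv.1.2⟩
  refine hv0 (rep_inj ρ g ((hnone _ hgLay ?_).trans (map_zero _).symm))
  rw [mem_eigSub]
  intro a
  obtain ⟨b, y, z, hAu⟩ := S.Au t a
  have hd : ρ (S.D (.ofAdd (S.e * t ^ 3 * a))) v = μ (S.e * t ^ 3 * a) • v :=
    (mem_eigSub ρ S.D).1 hv.1.2 _
  have hb : ρ (S.B b) v = v := mem_one ρ (hβ hv) b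
  rw [← Module.End.mul_apply, ← map_mul, hAu]
  simp only [map_mul, Module.End.mul_apply, S.Z_fix ρ hv.1, hd, map_smul, mem_one ρ hv.2, hb,
    (mem_eigSub ρ S.A).1 (hα hv), smul_smul]
  congr 1
  rw [← hr, AddChar.mulShift_apply, ← AddChar.map_add_eq_mul, AddChar.one_apply, ht3,
    show S.e * t * a + r * a = 0 by
      rw [ht, show S.e * (-r * S.e⁻¹) = -r * (S.e * S.e⁻¹) by ring, mul_inv_cancel₀ S.e_ne]
      ring, AddChar.map_zero_eq_one]

end Heis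

end Cfsg.Agent.Lib.ExcDeg48
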