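import Cfsg.Agent.Lib.ExcDeg48.D4Inst
import Cfsg.Agent.Lib.Characters.Degree

/-!
The minimal degree of the triality groups.
-/

set_option autoImplicit false
set_option maxRecDepth 100000
set_option linter.unusedSectionVars false

namespace Cfsg.Agent.Lib.ExcDeg48.D4Model

open Cfsg.Lie Cfsg.Agent.Lib.ChevStructure Cfsg.Agent.Lib.LieTwisted.Twist

/-- `(q−1)(q⁴+q³+1)` does not divide the order. -/
theorem not_dvd_order {q : ℕ} (hq : 2 ≤ q) :
    ¬ (q - 1) * (q ^ 4 + q ^ 3 + 1) ∣ q ^ 12 * (q ^ 2 - 1) * (q ^ 6 - 1) * (q ^ 8 + q ^ 4 + 1) := by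
  intro h
  have h' : ((q : ℤ) ^ 4 + (q : ℤ) ^ 3 + 1) ∣
      (q : ℤ) ^ 12 * ((q : ℤ) ^ 2 - 1) * ((q : ℤ) ^ 6 - 1) * ((q : ℤ) ^ 8 + (q : ℤ) ^ 4 + 1) := by
    have h1 := Int.natCast_dvd_natCast.2 (dvd_trans (Dvd.intro_left _ rfl) h)
    push_cast [Nat.cast_sub (Nat.one_le_pow 2 q (by omega)), Nat.cast_sub (Nat.one_le_pow 6 q (by omega))] at h1
    exact h1
  set x : ℤ := (q : ℤ) with hx
  set M : ℤ := x ^ 4 + x ^ 3 + 1 with hM
  have c0 : IsCoprime M x := ⟨1, -(x ^ 3 + x ^ 2), by rw [hM]; ring⟩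
  have c2 : IsCoprime M (x + 1) := ⟨1, -(x ^ 3), by rw [hM]; ring⟩
  have c6 : IsCoprime M (x ^ 2 - x + 1) :=
    ⟨x - 1, 1 - (x - 1) * (x + 1) ^ 2, by rw [hM]; ring⟩
  have c12 : IsCoprime M (x ^ 4 - x ^ 2 + 1) := ⟨-(x - 1), x, by rw [hM]; ring⟩
  have hfac : x ^ 12 * (x ^ 2 - 1) * (x ^ 6 - 1) * (x ^ 8 + x ^ 4 + 1) =
      (x ^ 12 * (x + 1) ^ 2 * (x ^ 2 - x + 1) ^ 2 * (x ^ 4 - x ^ 2 + 1)) *
        ((x - 1) * ((x - 1) * ((x ^ 2 + x + 1) * (x ^ 2 + x + 1)))) := by ring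
  rw [hfac] at h'
  have h1 := ((((c0.pow_right (n := 12)).mul_right (c2.pow_right (n := 2))).mul_right
    (c6.pow_right (n := 2))).mul_right c12).dvd_of_dvd_mul_left h'
  have s1 : ∀ b, M ∣ (x - 1) * b → M ∣ 3 * b := fun b hb => by
    obtain ⟨t, ht⟩ := hb
    exact ⟨b - (x ^ 3 + 2 * x ^ 2 + 2 * x + 2) * t, by
      have e : (3 : ℤ) = M - (x - 1) * (x ^ 3 + 2 * x ^ 2 + 2 * x + 2) := by rw [hM]; ring
      rw [e]; linear_combination -(x ^ 3 + 2 * x ^ 2 + 2 * x + 2) * ht⟩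
  have s3 : ∀ b, M ∣ (x ^ 2 + x + 1) * b → M ∣ 3 * b := fun b hb => by
    obtain ⟨t, ht⟩ := hb
    exact ⟨-(x - 1) * b + (1 + (x - 1) * (x ^ 2 - 1)) * t, by
      have e : (3 : ℤ) = (x ^ 2 + x + 1) * (1 + (x - 1) * (x ^ 2 - 1)) - M * (x - 1) := by rw [hM]; ring
      rw [e]; linear_combination (1 + (x - 1) * (x ^ 2 - 1)) * ht⟩
  have h2 : M ∣ 3 * ((x - 1) * ((x ^ 2 + x + 1) * (x ^ 2 + x + 1))) := s1 _ h1
  rw [mul_left_comm] at h2
  have h3 : M ∣ 9 * ((x ^ 2 + x + 1) * (x ^ 2 + x + 1)) := by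
    have := s1 _ h2; rwa [← mul_assoc] at this
  have h4 : M ∣ 27 * (x ^ 2 + x + 1) := by
    have h : M ∣ (x ^ 2 + x + 1) * (9 * (x ^ 2 + x + 1)) := by
      rw [← mul_left_comm]; exact h3
    have := s3 _ h; rwa [← mul_assoc] at this
  have h5 : M ∣ 81 := by
    rw [mul_comm] at h4
    have := s3 _ h4; exact this
  have h6 : (q ^ 4 + q ^ 3 + 1) ∣ 81 := by
    rw [← Int.natCast_dvd_natCast]; push_cast; exact h5
  rcases Nat.lt_or_ge q 3 with h | h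
  · obtain rfl : q = 2 := by omega
    norm_num at h6
  · have h81 := Nat.le_of_dvd (by norm_num) h6
    have : 3 ^ 4 ≤ q ^ 4 := Nat.pow_le_pow_left h 4
    omega

/-- The bound for a non-trivial irreducible representation. -/
theorem d4_final {K : Type*} [Field K] [Fintype K] {q : ℕ} (hq : IsPrimePow q)
    (hK : Fintype.card K = q ^ 3) {M : Type*} [AddCommGroup M] [Module ℂ M] [FiniteDimensional ℂ M]
    (ρ : Representation ℂ ↥(Cfsg.Lie.twistedD4 K q) M) [ρ.IsIrreducible] (hnt : ∃ g, ρ g ≠ 1) :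
    q * (q ^ 4 - q ^ 2 + 1) ≤ Module.finrank ℂ M := by
  classical
  have hord := D4.card_twisted hq hK
  obtain ⟨φ, FF⟩ := Frob.exists_frob hq hK (by norm_num : (3 : ℕ) ≠ 0)
  have hG : Gr FF hq.one_lt hK = Cfsg.Lie.twistedD4 K q := D4.G1_eq FF hq.one_lt hK
  have hq2 : 2 ≤ q := hq.two_le
  letI : Fintype (Fq φ) := Fintype.ofFinite _
  let e := MulEquiv.subgroupCongr hG
  have := (D4.simple hq hK).1
  refine (heisD4 FF hq.one_lt hK).d4_bound (ρ.comp e.toMonoidHom) hq2 (card_Fq FF) hK ?_ ?_ ?_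
  · obtain ⟨g, hg⟩ := IsCyclic.exists_ofOrder_eq_natCard (α := Kˣ)
    rw [FF.card_units] at hg
    have h8 : 8 ≤ q ^ 3 := le_trans (by norm_num : 8 ≤ 2 ^ 3) (Nat.pow_le_pow_left hq2 3)
    refine ⟨g, fun h => ?_, fun h4 h => ?_⟩
    · have h1 : orderOf g ∣ 2 := orderOf_dvd_of_pow_eq_one (Units.ext (by simpa using h))
      have := Nat.le_of_dvd (by norm_num) h1
      omega
    · have hv : ((g : K) * φ g * φ (φ g)) ^ 2 = 1 := congrArg Subtype.val h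
      rw [FF.apply, show (g : K) ^ q = φ g from (FF.apply _).symm,
        show φ (φ (g : K)) = (g : K) ^ q ^ 2 from FF.iterate 2 _, FF.apply, ← pow_succ', ← pow_add,
        ← pow_mul] at hv
      have h1 : orderOf g ∣ (q + 1 + q ^ 2) * 2 := orderOf_dvd_of_pow_eq_one (Units.ext (by simpa using hv))
      have h2 := Nat.le_of_dvd (by omega) h1
      have hcube : q * q ^ 2 = q ^ 3 := by ring
      have : 4 * q ^ 2 ≤ q * q ^ 2 := Nat.mul_le_mul_right _ h4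
      have h4q : 4 * q ≤ q ^ 2 := by rw [pow_two]; exact Nat.mul_le_mul_right _ h4
      omega
  · by_contra hcon
    push Not at hcon
    obtain ⟨g, hg⟩ := hnt
    have hne : e ((heisD4 FF hq.one_lt hK).Z (Multiplicative.ofAdd (1 : Fq φ))) ≠ 1 := by
      intro h
      have h' : x 23 ((1 : Fq φ) : K) = 1 := congrArg Subtype.val h
      exact one_ne_zero (x_eq_zero h')
    rcases Subgroup.Normal.eq_bot_or_eq_top (MonoidHom.normal_ker ρ) with h | h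
    · exact hne (Subgroup.mem_bot.1 (h ▸ MonoidHom.mem_ker.2
        (hcon (Multiplicative.ofAdd (1 : Fq φ)))))
    · exact hg (MonoidHom.mem_ker.1 (show g ∈ MonoidHom.ker ρ by rw [h]; trivial))
  · intro hN
    refine not_dvd_order hq2 ?_
    rw [← hN, ← hord]
    exact Characters.Degree.finrank_dvd_card ρ

end Cfsg.Agent.Lib.ExcDeg48.D4Model
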