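import Cfsg.Agent.Lib.ExcDeg48.D4Model

/-!
The triality groups have a Heisenberg parabolic in the sense of `Heis`.
-/

set_option autoImplicit false
set_option maxRecDepth 100000
set_option linter.unusedSectionVars false

namespace Cfsg.Agent.Lib.ExcDeg48.D4Model

open Cfsg.Lie Cfsg.Agent.Lib.ChevStructure Cfsg.Agent.Lib.LieTwisted.Twist
open scoped MatrixGroups

variable {K : Type*} [Field K] [Fintype K] {q : ℕ} {φ : K ≃+* K}
  (FF : Frob.Facts K q 3 φ) (hq1 : 1 < q) (hK : Fintype.card K = q ^ 3)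

/-- The image of a root. -/
def piD (r : Fin 24) : Fin 24 := ⟨((LieTwisted.GraphData.symD4.π r.val) % 24), Nat.mod_lt _ (by decide)⟩

theorem piD_spec : ∀ r : Rt chevD4, (Frob.rootPerm D4.g r).val = (piD ⟨r.val, r.isLt⟩).val := by
  decide +kernel

/-- The sign. -/
def epsD (r : Fin 24) : ℤ := LieTwisted.GraphData.symD4.ε r.val

theorem theta_x (φ : K ≃+* K) (r : Fin 24) (t : K) :
    Frob.theta D4.g φ (x r t) = x (piD r) ((epsD r : K) * φ t) := by
  rw [x, Frob.theta_X]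
  show D4.C.X K _ _ = D4.C.X K _ _
  congr 1
  exact Fin.ext (piD_spec _)

theorem pi_vals :
    piD 14 = 14 ∧ piD 22 = 22 ∧ piD 23 = 23 ∧ piD 19 = 16 ∧ piD 16 = 15 ∧ piD 15 = 19 ∧
    piD 17 = 20 ∧ piD 20 = 21 ∧ piD 21 = 17 ∧ piD 18 = 13 ∧ piD 13 = 12 ∧ piD 12 = 18 := by
  decide +kernel

theorem eps_vals :
    epsD 14 = 1 ∧ epsD 22 = 1 ∧ epsD 23 = 1 ∧ epsD 19 = -1 ∧ epsD 16 = 1 ∧ epsD 15 = -1 ∧
    epsD 17 = -1 ∧ epsD 20 = 1 ∧ epsD 21 = -1 ∧ epsD 18 = 1 ∧ epsD 13 = 1 ∧ epsD 12 = 1 := by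
  decide +kernel

/-- The group. -/
noncomputable abbrev Gr : Subgroup (GL chevD4.Idx K) := (D4.orth FF hq1 hK).G1

theorem mem_Gr {g : GL chevD4.Idx K} (hg : g ∈ chevD4.group K) (hθ : Frob.theta D4.g φ g = g) :
    g ∈ Gr FF hq1 hK :=
  ((D4.orth FF hq1 hK).tw.mem_W_iff (g := g)).2 ⟨hg, hθ⟩

theorem x_group (r : Fin 24) (t : K) : x r t ∈ chevD4.group K := D4.C.X_mem_group _ _

/-- The fixed field. -/
abbrev Fq (φ : K ≃+* K) : Subfield K := RingHom.eqLocusField (φ : K →+* K) (RingHom.id K)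

theorem fix_val (s : Fq φ) : φ (s : K) = s := s.2

theorem card_Fq [Fintype (Fq φ)] (FF : Frob.Facts K q 3 φ) : Fintype.card (Fq φ) = q := by
  rw [← Nat.card_eq_fintype_card]
  exact (Nat.card_congr (Equiv.subtypeEquivRight fun _ => Iff.rfl)).trans FF.card_fix

theorem cube (FF : Frob.Facts K q 3 φ) (t : K) : φ (φ (φ t)) = t := FF.pow t

/-- A fixed root element. -/
theorem single_mem (r : Fin 24) (hr : piD r = r ∧ epsD r = 1) (s : Fq φ) :
    x r (s : K) ∈ Gr FF hq1 hK :=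
  mem_Gr FF hq1 hK (x_group _ _) (by rw [theta_x, hr.1, hr.2, fix_val]; simp)

/-- A product over an orbit. -/
theorem orbit_mem {a b c : Fin 24} (hp : piD a = b ∧ piD b = c ∧ piD c = a) {ea eb : ℤ}
    (he : epsD a = ea ∧ epsD b = eb) (hprod : ea * eb * epsD c = 1)
    (hcab : (a, b) ∈ pairs ∨ (b, a) ∈ pairs) (hcac : (a, c) ∈ pairs ∨ (c, a) ∈ pairs)
    (hcbc : (b, c) ∈ pairs ∨ (c, b) ∈ pairs) (t : K) :
    x a t * (x b ((ea : K) * φ t) * x c ((ea : K) * (eb : K) * φ (φ t))) ∈ Gr FF hq1 hK := by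
  refine mem_Gr FF hq1 hK (mul_mem (x_group _ _) (mul_mem (x_group _ _) (x_group _ _))) ?_
  rw [map_mul, map_mul, theta_x, theta_x, theta_x, hp.1, hp.2.1, hp.2.2, he.1, he.2]
  simp only [map_mul, map_intCast, cube FF]
  rw [show (epsD c : K) * ((ea : K) * (eb : K) * t) = ((ea * eb * epsD c : ℤ) : K) * t by
    push_cast; ring, hprod, Int.cast_one, one_mul,
    show (eb : K) * ((ea : K) * φ (φ t)) = (ea : K) * (eb : K) * φ (φ t) by ring]
  rw [← mul_assoc (x b _) (x c _)]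
  exact ((cm hcab t _).mul_right (cm hcac t _)).eq.symm

theorem mul3 {G : Type*} [Monoid G] {a b c a' b' c' : G} (h1 : Commute b a') (h2 : Commute c a')
    (h3 : Commute c b') : a * (b * c) * (a' * (b' * c')) = a * a' * (b * b' * (c * c')) := by
  calc a * (b * c) * (a' * (b' * c')) = a * ((b * c) * a') * (b' * c') := by simp only [mul_assoc]
    _ = a * (a' * (b * c)) * (b' * c') := by rw [(h1.mul_left h2).eq]
    _ = a * a' * b * (c * b') * c' := by simp only [mul_assoc]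
    _ = a * a' * b * (b' * c) * c' := by rw [h3.eq]
    _ = _ := by simp only [mul_assoc]

/-- The lowest root group. -/
noncomputable def hA : Multiplicative (Fq φ) →* Gr FF hq1 hK :=
  MonoidHom.mk' (fun s => ⟨x 14 (s.toAdd : K), single_mem FF hq1 hK 14 ⟨pi_vals.1, eps_vals.1⟩ _⟩)
    fun s t => Subtype.ext (x_add _ (s.toAdd : K) (t.toAdd : K)).symm

/-- The highest root group of the quotient. -/
noncomputable def hD' : Multiplicative (Fq φ) →* Gr FF hq1 hK :=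
  MonoidHom.mk' (fun s => ⟨x 22 (-(s.toAdd : K)),
      single_mem FF hq1 hK 22 ⟨pi_vals.2.1, eps_vals.2.1⟩ (-s.toAdd)⟩)
    fun s t => Subtype.ext (by
      show x 22 (-((s.toAdd : K) + (t.toAdd : K))) = x 22 (-(s.toAdd : K)) * x 22 (-(t.toAdd : K))
      rw [x_add, neg_add])

/-- The centre. -/
noncomputable def hZ : Multiplicative (Fq φ) →* Gr FF hq1 hK :=
  MonoidHom.mk' (fun s => ⟨x 23 (s.toAdd : K), single_mem FF hq1 hK 23 ⟨pi_vals.2.2.1, eps_vals.2.2.1⟩ _⟩)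
    fun s t => Subtype.ext (x_add _ (s.toAdd : K) (t.toAdd : K)).symm

theorem memB (b : K) : x 19 b * (x 16 (-φ b) * x 15 (-φ (φ b))) ∈ Gr FF hq1 hK := by
  have h := orbit_mem FF hq1 hK (a := 19) (b := 16) (c := 15)
    ⟨pi_vals.2.2.2.1, pi_vals.2.2.2.2.1, pi_vals.2.2.2.2.2.1⟩
    ⟨eps_vals.2.2.2.1, eps_vals.2.2.2.2.1⟩ (by rw [eps_vals.2.2.2.2.2.1]; rfl) (by decide) (by decide)
    (by decide) b
  simpa using h

theorem memC (c : K) : x 17 c * (x 20 (-φ c) * x 21 (-φ (φ c))) ∈ Gr FF hq1 hK := by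
  have h := orbit_mem FF hq1 hK (a := 17) (b := 20) (c := 21)
    ⟨pi_vals.2.2.2.2.2.2.1, pi_vals.2.2.2.2.2.2.2.1, pi_vals.2.2.2.2.2.2.2.2.1⟩
    ⟨eps_vals.2.2.2.2.2.2.1, eps_vals.2.2.2.2.2.2.2.1⟩ (by rw [eps_vals.2.2.2.2.2.2.2.2.1]; rfl)
    (by decide) (by decide) (by decide) c
  simpa using h

theorem memU (t : K) : x 18 (-t) * (x 13 (-φ t) * x 12 (-φ (φ t))) ∈ Gr FF hq1 hK := by
  have h := orbit_mem FF hq1 hK (a := 18) (b := 13) (c := 12)
    ⟨pi_vals.2.2.2.2.2.2.2.2.2.1, pi_vals.2.2.2.2.2.2.2.2.2.2.1, pi_vals.2.2.2.2.2.2.2.2.2.2.2⟩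
    ⟨eps_vals.2.2.2.2.2.2.2.2.2.1, eps_vals.2.2.2.2.2.2.2.2.2.2.1⟩
    (by rw [eps_vals.2.2.2.2.2.2.2.2.2.2.2]; rfl) (by decide) (by decide) (by decide) (-t)
  simpa using h

/-- The second root group. -/
noncomputable def hB : Multiplicative K →* Gr FF hq1 hK :=
  MonoidHom.mk' (fun b => ⟨x 19 b.toAdd * (x 16 (-φ b.toAdd) * x 15 (-φ (φ b.toAdd))), memB FF hq1 hK _⟩)
    fun a b => Subtype.ext (by
      show x 19 (a.toAdd + b.toAdd) * (x 16 (-φ (a.toAdd + b.toAdd)) * x 15 (-φ (φ (a.toAdd + b.toAdd)))) =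
        x 19 a.toAdd * (x 16 (-φ a.toAdd) * x 15 (-φ (φ a.toAdd))) *
          (x 19 b.toAdd * (x 16 (-φ b.toAdd) * x 15 (-φ (φ b.toAdd))))
      rw [mul3 (cm (by decide) _ _) (cm (by decide) _ _) (cm (by decide) _ _)]
      simp only [x_add, map_add, neg_add])

/-- The third root group. -/
noncomputable def hC : Multiplicative K →* Gr FF hq1 hK :=
  MonoidHom.mk' (fun b => ⟨x 17 b.toAdd * (x 20 (-φ b.toAdd) * x 21 (-φ (φ b.toAdd))), memC FF hq1 hK _⟩)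
    fun a b => Subtype.ext (by
      show x 17 (a.toAdd + b.toAdd) * (x 20 (-φ (a.toAdd + b.toAdd)) * x 21 (-φ (φ (a.toAdd + b.toAdd)))) =
        x 17 a.toAdd * (x 20 (-φ a.toAdd) * x 21 (-φ (φ a.toAdd))) *
          (x 17 b.toAdd * (x 20 (-φ b.toAdd) * x 21 (-φ (φ b.toAdd))))
      rw [mul3 (cm (by decide) _ _) (cm (by decide) _ _) (cm (by decide) _ _)]
      simp only [x_add, map_add, neg_add])

/-- The trace. -/
def trD (FF : Frob.Facts K q 3 φ) : K →ₗ[Fq φ] Fq φ where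
  toFun y := ⟨y + φ y + φ (φ y), by
    show φ (y + φ y + φ (φ y)) = y + φ y + φ (φ y)
    rw [map_add, map_add, cube FF]; ring⟩
  map_add' a b := Subtype.ext (by
    show a + b + φ (a + b) + φ (φ (a + b)) = a + φ a + φ (φ a) + (b + φ b + φ (φ b))
    simp only [map_add]; ring)
  map_smul' s a := Subtype.ext (by
    show (s : K) * a + φ ((s : K) * a) + φ (φ ((s : K) * a)) = (s : K) * (a + φ a + φ (φ a))
    simp only [map_mul, fix_val]; ring)

include hq1 hK in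
theorem trD_ne (FF : Frob.Facts K q 3 φ) : ∃ y, trD FF y ≠ 0 := by
  classical
  by_contra hcon
  push Not at hcon
  let P : Polynomial K := Polynomial.X + Polynomial.X ^ q + Polynomial.X ^ (q ^ 2)
  have hroot : ∀ y : K, P.eval y = 0 := fun y => by
    have h : y + φ y + φ (φ y) = 0 := congrArg Subtype.val (hcon y)
    rw [show φ (φ y) = y ^ q ^ 2 from FF.iterate 2 y, FF.apply] at h
    simpa [P] using h
  have hq2 : q < q ^ 2 := by rw [pow_two]; exact lt_mul_of_one_lt_left (by omega) hq1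
  have hdeg : P.natDegree = q ^ 2 := by
    have h1 : (Polynomial.X + Polynomial.X ^ q : Polynomial K).natDegree < q ^ 2 := by
      refine lt_of_le_of_lt (Polynomial.natDegree_add_le _ _) ?_
      simp only [Polynomial.natDegree_X, Polynomial.natDegree_X_pow]
      omega
    show (Polynomial.X + Polynomial.X ^ q + Polynomial.X ^ (q ^ 2) : Polynomial K).natDegree = _
    rw [Polynomial.natDegree_add_eq_right_of_natDegree_lt (by rwa [Polynomial.natDegree_X_pow]),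
      Polynomial.natDegree_X_pow]
  have hP0 : P ≠ 0 := fun h => by
    rw [h, Polynomial.natDegree_zero] at hdeg
    exact absurd hdeg.symm (pow_ne_zero 2 (by omega))
  have h1 : Fintype.card K ≤ P.roots.toFinset.card := by
    rw [← Finset.card_univ]
    exact Finset.card_le_card fun y _ => Multiset.mem_toFinset.2 ((Polynomial.mem_roots hP0).2 (hroot y))
  have h2 := le_trans (Multiset.toFinset_card_le _) (Polynomial.card_roots' P)
  rw [hK] at h1
  rw [hdeg] at h2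
  have : q ^ 2 < q ^ 3 := Nat.pow_lt_pow_right hq1 (by omega)
  omega

/-- The norm. -/
def nD (FF : Frob.Facts K q 3 φ) (y : K) : Fq φ :=
  ⟨y * φ y * φ (φ y), by
    show φ (y * φ y * φ (φ y)) = y * φ y * φ (φ y)
    rw [map_mul, map_mul, cube FF]; ring⟩

theorem nD_ne (k : Kˣ) : nD FF (k : K) ≠ 0 := fun h => by
  have h' : (k : K) * φ k * φ (φ k) = 0 := congrArg Subtype.val h
  simp [mul_eq_zero, map_eq_zero] at h'

/-- A torus element. -/
noncomputable def tor (κ : Kˣ) (σ : {u : Kˣ // Units.map (φ : K →* K) u = u}) : Gr FF hq1 hK :=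
  ⟨D4.C.HT K ![κ, σ.1, Units.map (φ : K →* K) κ, Units.map (φ : K →* K) (Units.map (φ : K →* K) κ)],
    (D4.orth FF hq1 hK).HT_fixed_mem _ ((D4.mem_TF FF hq1 hK _).2 ⟨σ.2, rfl, rfl⟩)⟩

/-- A row of the Cartan integers. -/
def rowD (r : Fin 24) : Fin 4 → ℤ := fun j =>
  A chevD4 (⟨j.val, j.isLt⟩ : Fin chevD4.rank) (⟨r.val, r.isLt⟩ : Rt chevD4)

theorem cartan_rows :
    rowD 14 = ![-1, 2, -1, -1] ∧ rowD 19 = ![1, 1, -1, -1] ∧ rowD 16 = ![-1, 1, 1, -1] ∧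
    rowD 15 = ![-1, 1, -1, 1] ∧ rowD 17 = ![-1, 0, 1, 1] ∧ rowD 20 = ![1, 0, -1, 1] ∧
    rowD 21 = ![1, 0, 1, -1] ∧ rowD 22 = ![1, -1, 1, 1] ∧ rowD 23 = ![0, 1, 0, 0] := by
  refine ⟨?_, ?_, ?_, ?_, ?_, ?_, ?_, ?_, ?_⟩ <;> decide +kernel

theorem tor_x (κ : Kˣ) (σ : {u : Kˣ // Units.map (φ : K →* K) u = u}) (r : Fin 24) {e : Fin 4 → ℤ}
    (he : rowD r = e) (t : K) :
    (tor FF hq1 hK κ σ : GL chevD4.Idx K) * x r t = x r (((κ : K) ^ e 0 * ((σ.1 : Kˣ) : K) ^ e 1 *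
      φ (κ : K) ^ e 2 * φ (φ (κ : K)) ^ e 3) * t) * (tor FF hq1 hK κ σ : GL chevD4.Idx K) := by
  set v : Fin 4 → Kˣ :=
    ![κ, σ.1, Units.map (φ : K →* K) κ, Units.map (φ : K →* K) (Units.map (φ : K →* K) κ)] with hv
  have h := D4.C.HT_X_conj (R := K) v (⟨r.val, r.isLt⟩ : Rt chevD4) t
  rw [mul_inv_eq_iff_eq_mul] at h
  have hval : ((D4.C.chA v (⟨r.val, r.isLt⟩ : Rt chevD4) : Kˣ) : K) =
      (κ : K) ^ e 0 * ((σ.1 : Kˣ) : K) ^ e 1 * φ (κ : K) ^ e 2 * φ (φ (κ : K)) ^ e 3 := by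
    rw [← he]
    show (((∏ j : Fin 4, v j ^ rowD r j) : Kˣ) : K) = _
    rw [Fin.prod_univ_four]
    simp only [Units.val_mul, Units.val_zpow_eq_zpow_val]
    rfl
  show D4.C.HT K v * D4.C.X K _ t = _
  rw [h, hval]
  rfl

/-- A fixed unit. -/
def fixU (s : (Fq φ)ˣ) : {u : Kˣ // Units.map (φ : K →* K) u = u} :=
  ⟨Units.map ((Fq φ).subtype : Fq φ →* K) s, Units.ext (fix_val (s : Fq φ))⟩

theorem wImg :
    Data.D4.fast.actW ([0, 2, 3] : List ℕ) 14 = 22 ∧ Data.D4.fast.actW ([0, 2, 3] : List ℕ) 22 = 14 ∧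
    Data.D4.fast.actW ([0, 2, 3] : List ℕ) 23 = 23 ∧ Data.D4.fast.actW ([1] : List ℕ) 23 = 22 := by
  refine ⟨?_, ?_, ?_, ?_⟩ <;> decide +kernel

/-- The Weyl representative of an orbit. -/
noncomputable def weyl (m : Fin 2) : Gr FF hq1 hK :=
  ⟨D4.C.wprod K ((D4.orth FF hq1 hK).Jl m), (D4.orth FF hq1 hK).P_orbit_mem m⟩

theorem weyl_x (m : Fin 2) (r s : Fin 24) (hr : piD r = r ∧ epsD r = 1)
    (hs : piD s = s ∧ epsD s = 1) (h : Data.D4.fast.actW (D4.Js.getD m.val []) r.val = s.val) :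
    ∃ e : Fq φ, e ≠ 0 ∧ ∀ t : Fq φ, (weyl FF hq1 hK m : GL chevD4.Idx K) * x r (t : K) =
      x s ((e : K) * (t : K)) * (weyl FF hq1 hK m : GL chevD4.Idx K) := by
  have hJ : ((D4.orth FF hq1 hK).Jl m).map Fin.val = D4.Js.getD m.val [] := D4.Js_spec FF hq1 hK m
  obtain ⟨e, he⟩ := D4.C.acts_wprod K ((D4.orth FF hq1 hK).Jl m) (⟨r.val, r.isLt⟩ : Rt chevD4)
  have hσ : D4.C.pprod ((D4.orth FF hq1 hK).Jl m) (⟨r.val, r.isLt⟩ : Rt chevD4) = ⟨s.val, s.isLt⟩ := by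
    refine Fin.ext ?_
    show (Cert.D4.certified.core.pprod _ _).val = _
    rw [Cert.D4.certified.actW_eq, hJ]
    exact h
  rw [hσ] at he
  have he' : ∀ t, (weyl FF hq1 hK m : GL chevD4.Idx K) * x r t =
      x s ((e : K) * t) * (weyl FF hq1 hK m : GL chevD4.Idx K) := fun t =>
    mul_inv_eq_iff_eq_mul.1 (he t)
  have hfix : φ (e : K) = e := by
    have h1 : (weyl FF hq1 hK m : GL chevD4.Idx K) * x r (1 : K) =
        x s (e : K) * (weyl FF hq1 hK m : GL chevD4.Idx K) := by rw [he', mul_one]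
    have hw : Frob.theta D4.g φ (weyl FF hq1 hK m : GL chevD4.Idx K) = (weyl FF hq1 hK m : GL chevD4.Idx K) :=
      (D4.orth FF hq1 hK).G1_fix _ (weyl FF hq1 hK m).2
    have h2 := congrArg (Frob.theta D4.g φ) h1
    rw [map_mul, map_mul, hw, theta_x, theta_x, hr.1, hr.2, hs.1, hs.2, Int.cast_one, one_mul, one_mul,
      map_one, h1] at h2
    exact (x_inj (mul_right_cancel h2)).symm
  exact ⟨⟨(e : K), hfix⟩, fun h => e.ne_zero (congrArg Subtype.val h), fun t => he' t⟩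

end Cfsg.Agent.Lib.ExcDeg48.D4Model
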