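import Cfsg.Agent.Lib.ExcDeg48.D4Heis

/-!
The instance of the Heisenberg relations.
-/

set_option autoImplicit false
set_option maxRecDepth 100000
set_option linter.unusedSectionVars false

namespace Cfsg.Agent.Lib.ExcDeg48.D4Model

open Cfsg.Lie Cfsg.Agent.Lib.ChevStructure Cfsg.Agent.Lib.LieTwisted.Twist
open scoped MatrixGroups

variable {K : Type*} [Field K] [Fintype K] {q : ℕ} {φ : K ≃+* K}
  (FF : Frob.Facts K q 3 φ) (hq1 : 1 < q) (hK : Fintype.card K = q ^ 3)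

theorem cross {G : Type*} [Monoid G] {a b c a' b' c' z1 z2 z3 : G} (h1 : Commute b a')
    (h2 : Commute c a') (h3 : Commute a b') (h4 : Commute c b') (h5 : Commute a c') (h6 : Commute b c')
    (e1 : a * a' = a' * a * z1) (e2 : b * b' = b' * b * z2) (e3 : c * c' = c' * c * z3)
    (z1b : Commute z1 b) (z1c : Commute z1 c) (z1b' : Commute z1 b') (z1c' : Commute z1 c')
    (z2c : Commute z2 c) (z2c' : Commute z2 c') (zz : Commute z1 (z2 * z3)) :
    a * (b * c) * (a' * (b' * c')) = a' * (b' * c') * (a * (b * c)) * (z1 * (z2 * z3)) := by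
  calc a * (b * c) * (a' * (b' * c')) = a * ((b * c) * a') * (b' * c') := by simp only [mul_assoc]
    _ = (a * a') * (b * c) * (b' * c') := by rw [(h1.mul_left h2).eq]; simp only [mul_assoc]
    _ = a' * a * (z1 * ((b * c) * (b' * c'))) := by rw [e1]; simp only [mul_assoc]
    _ = a' * a * ((b * c) * (b' * c') * z1) := by
        rw [((z1b.mul_right z1c).mul_right (z1b'.mul_right z1c')).eq]
    _ = a' * a * (b * (c * b') * c' * z1) := by simp only [mul_assoc]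
    _ = a' * a * ((b * b') * (c * c') * z1) := by rw [h4.eq]; simp only [mul_assoc]
    _ = a' * a * (b' * b * (z2 * (c' * c)) * z3 * z1) := by rw [e2, e3]; simp only [mul_assoc]
    _ = a' * a * (b' * b * ((c' * c) * z2) * z3 * z1) := by rw [(z2c'.mul_right z2c).eq]
    _ = a' * (a * b') * (b * c') * c * (z2 * z3 * z1) := by simp only [mul_assoc]
    _ = a' * b' * a * (c' * b) * c * (z2 * z3 * z1) := by rw [h3.eq, h6.eq]; simp only [mul_assoc]
    _ = a' * b' * (a * c') * b * c * (z2 * z3 * z1) := by simp only [mul_assoc]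
    _ = a' * b' * (c' * a) * b * c * (z2 * z3 * z1) := by rw [h5.eq]
    _ = a' * (b' * c') * (a * (b * c)) * (z2 * z3 * z1) := by simp only [mul_assoc]
    _ = _ := by
        congr 1

        exact zz.eq.symm

theorem hA_val (a : Fq φ) : ((hA FF hq1 hK (.ofAdd a) : Gr FF hq1 hK) : GL chevD4.Idx K) = x 14 (a : K) := rfl

theorem hD_val (a : Fq φ) :
    ((hD' FF hq1 hK (.ofAdd a) : Gr FF hq1 hK) : GL chevD4.Idx K) = x 22 (-(a : K)) := rfl

theorem hZ_val (a : Fq φ) : ((hZ FF hq1 hK (.ofAdd a) : Gr FF hq1 hK) : GL chevD4.Idx K) = x 23 (a : K) := rfl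

theorem hB_val (b : K) : ((hB FF hq1 hK (.ofAdd b) : Gr FF hq1 hK) : GL chevD4.Idx K) =
    x 19 b * (x 16 (-φ b) * x 15 (-φ (φ b))) := rfl

theorem hC_val (b : K) : ((hC FF hq1 hK (.ofAdd b) : Gr FF hq1 hK) : GL chevD4.Idx K) =
    x 17 b * (x 20 (-φ b) * x 21 (-φ (φ b))) := rfl

theorem trD_val (y : K) : ((trD FF y : Fq φ) : K) = y + φ y + φ (φ y) := rfl

theorem nD_val (y : K) : ((nD FF y : Fq φ) : K) = y * φ y * φ (φ y) := rfl

theorem smul_val (s : Fq φ) (y : K) : s • y = (s : K) * y := rfl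

theorem alg_val (s : Fq φ) : algebraMap (Fq φ) K s = (s : K) := rfl

theorem mk_eq {a b : Gr FF hq1 hK} (h : (a : GL chevD4.Idx K) = (b : GL chevD4.Idx K)) : a = b :=
  Subtype.ext h

theorem com3 {G : Type*} [Monoid G] {z a b c : G} (h1 : Commute z a) (h2 : Commute z b) (h3 : Commute z c) :
    Commute z (a * (b * c)) := h1.mul_right (h2.mul_right h3)

theorem comGr {a b : Gr FF hq1 hK} (h : Commute (a : GL chevD4.Idx K) (b : GL chevD4.Idx K)) :
    Commute a b := Subtype.ext h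

/-- The Levi root group. -/
noncomputable def hu (t : K) : Gr FF hq1 hK :=
  ⟨x 18 (-t) * (x 13 (-φ t) * x 12 (-φ (φ t))), memU FF hq1 hK t⟩

theorem zpow_vals (s : K) : s ^ (0 : ℤ) = 1 ∧ s ^ (1 : ℤ) = s ∧ s ^ (-1 : ℤ) = s⁻¹ ∧ s ^ (2 : ℤ) = s ^ 2 :=
  ⟨zpow_zero s, zpow_one s, zpow_neg_one s, zpow_two s |>.trans (pow_two s).symm⟩

theorem hu_val (t : K) : (hu FF hq1 hK t : GL chevD4.Idx K) =
    x 18 (-t) * (x 13 (-φ t) * x 12 (-φ (φ t))) := rfl

/-- The torus scaling the centre. -/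
noncomputable def hH2 (s : (Fq φ)ˣ) : Gr FF hq1 hK := tor FF hq1 hK 1 (fixU s)

/-- The torus scaling the quotient. -/
noncomputable def hH1 (s : (Fq φ)ˣ) : Gr FF hq1 hK :=
  tor FF hq1 hK (fixU s).1 (fixU (s ^ 2))

/-- The torus of the Levi root groups. -/
noncomputable def hHk (k : Kˣ) : Gr FF hq1 hK := tor FF hq1 hK k (fixU 1)

theorem fixU_val (s : (Fq φ)ˣ) : (((fixU s).1 : Kˣ) : K) = ((s : Fq φ) : K) := rfl

theorem h1_single (s : (Fq φ)ˣ) (r : Fin 24) {e : Fin 4 → ℤ} (he : rowD r = e)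
    (j : ℕ) (hj : e 0 + 2 * e 1 + e 2 + e 3 = j) (t : K) :
    (hH1 FF hq1 hK s : GL chevD4.Idx K) * x r t =
      x r (((s : Fq φ) : K) ^ j * t) * (hH1 FF hq1 hK s : GL chevD4.Idx K) := by
  have h0 : ((s : Fq φ) : K) ≠ 0 := fun h => s.ne_zero (Subtype.ext h)
  rw [hH1, tor_x FF hq1 hK _ _ r he t]
  congr 2
  rw [fixU_val, fixU_val, fix_val (s : Fq φ), fix_val (s : Fq φ), Units.val_pow_eq_pow_val]
  push_cast
  rw [← zpow_natCast (((s : Fq φ) : K)) 2, ← zpow_mul, ← zpow_add₀ h0, ← zpow_add₀ h0,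
    ← zpow_add₀ h0]
  rw [show e 0 + ((2 : ℕ) : ℤ) * e 1 + e 2 + e 3 = (j : ℤ) by push_cast; omega, zpow_natCast]

theorem h1_orbit (s : (Fq φ)ˣ) {a b c : Fin 24} {ea eb ec : Fin 4 → ℤ} (ha : rowD a = ea)
    (hb : rowD b = eb) (hc : rowD c = ec) (ja : ea 0 + 2 * ea 1 + ea 2 + ea 3 = 1)
    (jb : eb 0 + 2 * eb 1 + eb 2 + eb 3 = 1) (jc : ec 0 + 2 * ec 1 + ec 2 + ec 3 = 1) (t u v : K) :
    (hH1 FF hq1 hK s : GL chevD4.Idx K) * (x a t * (x b u * x c v)) =
      x a (((s : Fq φ) : K) * t) * (x b (((s : Fq φ) : K) * u) * x c (((s : Fq φ) : K) * v)) *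
        (hH1 FF hq1 hK s : GL chevD4.Idx K) := by
  rw [← mul_assoc, h1_single FF hq1 hK s a ha 1 ja, mul_assoc, ← mul_assoc _ (x b u),
    h1_single FF hq1 hK s b hb 1 jb, mul_assoc, h1_single FF hq1 hK s c hc 1 jc]
  simp only [pow_one, mul_assoc]

theorem tor_orbit (κ : Kˣ) (σ : {u : Kˣ // Units.map (φ : K →* K) u = u}) {a b c : Fin 24}
    {ea eb ec : Fin 4 → ℤ} (ha : rowD a = ea) (hb : rowD b = eb) (hc : rowD c = ec) (t u v : K)
    {t' u' v' : K}
    (ht : ((κ : K) ^ ea 0 * ((σ.1 : Kˣ) : K) ^ ea 1 * φ (κ : K) ^ ea 2 * φ (φ (κ : K)) ^ ea 3) * t = t')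
    (hu : ((κ : K) ^ eb 0 * ((σ.1 : Kˣ) : K) ^ eb 1 * φ (κ : K) ^ eb 2 * φ (φ (κ : K)) ^ eb 3) * u = u')
    (hv : ((κ : K) ^ ec 0 * ((σ.1 : Kˣ) : K) ^ ec 1 * φ (κ : K) ^ ec 2 * φ (φ (κ : K)) ^ ec 3) * v = v') :
    (tor FF hq1 hK κ σ : GL chevD4.Idx K) * (x a t * (x b u * x c v)) =
      x a t' * (x b u' * x c v') * (tor FF hq1 hK κ σ : GL chevD4.Idx K) := by
  subst ht hu hv
  have step : ∀ (r : Fin 24) {e : Fin 4 → ℤ}, rowD r = e → ∀ (y : K) (R : GL chevD4.Idx K),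
      (tor FF hq1 hK κ σ : GL chevD4.Idx K) * (x r y * R) =
        x r (((κ : K) ^ e 0 * ((σ.1 : Kˣ) : K) ^ e 1 * φ (κ : K) ^ e 2 * φ (φ (κ : K)) ^ e 3) * y) *
          ((tor FF hq1 hK κ σ : GL chevD4.Idx K) * R) := fun r e he y R =>
    ((mul_assoc _ _ _).symm.trans (congrArg (· * R) (tor_x FF hq1 hK κ σ r he y))).trans (mul_assoc _ _ _)
  rw [step a ha, step b hb, tor_x FF hq1 hK κ σ c hc]
  simp only [mul_assoc (G := GL chevD4.Idx K)]

attribute [local irreducible] x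

set_option maxHeartbeats 400000 in
/-- The relations. -/
noncomputable def heisD4 : Heis (Fq φ) K (Gr FF hq1 hK) where
  Z := hZ FF hq1 hK
  A := hA FF hq1 hK
  B := hB FF hq1 hK
  C := hC FF hq1 hK
  D := hD' FF hq1 hK
  L := trD FF
  N := nD FF
  u := hu FF hq1 hK
  h2 := hH2 FF hq1 hK
  h1 := hH1 FF hq1 hK
  hk := hHk FF hq1 hK
  n2 := weyl FF hq1 hK 0
  w := weyl FF hq1 hK 1
  e := 1
  e_ne := one_ne_zero
  L_ne := trD_ne hq1 hK FF
  zA z a := comGr FF hq1 hK (cm (by decide) _ _)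
  zB z b := comGr FF hq1 hK (com3 (cm (by decide) _ _) (cm (by decide) _ _) (cm (by decide) _ _))
  zC z c := comGr FF hq1 hK (com3 (cm (by decide) _ _) (cm (by decide) _ _) (cm (by decide) _ _))
  zD z d := comGr FF hq1 hK (cm (by decide) _ _)
  zu z t := comGr FF hq1 hK (com3 (cm (by decide) _ _) (cm (by decide) _ _) (cm (by decide) _ _))
  AB a b := comGr FF hq1 hK (com3 (cm (by decide) _ _) (cm (by decide) _ _) (cm (by decide) _ _))
  AC a c := comGr FF hq1 hK (com3 (cm (by decide) _ _) (cm (by decide) _ _) (cm (by decide) _ _))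
  BD b d := comGr FF hq1 hK
    (com3 (cm (by decide) _ _) (cm (by decide) _ _) (cm (by decide) _ _)).symm
  CD c d := comGr FF hq1 hK
    (com3 (cm (by decide) _ _) (cm (by decide) _ _) (cm (by decide) _ _)).symm
  uD t d := comGr FF hq1 hK
    (com3 (cm (by decide) _ _) (cm (by decide) _ _) (cm (by decide) _ _)).symm
  DA a d := mk_eq FF hq1 hK <| by
    simp only [Subgroup.coe_mul, hA_val, hB_val, hC_val, hD_val, hZ_val, hu_val, trD_val, nD_val, smul_val, alg_val, Subfield.coe_mul, Subfield.coe_neg, Subfield.coe_inv, SubmonoidClass.coe_pow, Subfield.coe_one]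
    show x 22 (-(d : K)) * x 14 (a : K) = x 14 (a : K) * x 22 (-(d : K)) * x 23 ((a : K) * (d : K))
    rw [swap 14 22 23 _ (by decide) (by decide) terms.1]
    congr 2; push_cast; ring
  CB b c := mk_eq FF hq1 hK <| by
    simp only [Subgroup.coe_mul, hA_val, hB_val, hC_val, hD_val, hZ_val, hu_val, trD_val, nD_val, smul_val, alg_val, Subfield.coe_mul, Subfield.coe_neg, Subfield.coe_inv, SubmonoidClass.coe_pow, Subfield.coe_one]
    show x 17 c * (x 20 (-φ c) * x 21 (-φ (φ c))) * (x 19 b * (x 16 (-φ b) * x 15 (-φ (φ b)))) =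
      x 19 b * (x 16 (-φ b) * x 15 (-φ (φ b))) * (x 17 c * (x 20 (-φ c) * x 21 (-φ (φ c)))) *
        x 23 (b * c + φ (b * c) + φ (φ (b * c)))
    obtain ⟨-, h17, h20, h21, -⟩ := terms
    rw [cross (z1 := x 23 (b * c)) (z2 := x 23 (φ (b * c))) (z3 := x 23 (φ (φ (b * c))))
      (cm (by decide) _ _) (cm (by decide) _ _) (cm (by decide) _ _) (cm (by decide) _ _)
      (cm (by decide) _ _) (cm (by decide) _ _)
      (by rw [swap 19 17 23 _ (by decide) (by decide) h17]; congr 2; push_cast; ring)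
      (by rw [swap 16 20 23 _ (by decide) (by decide) h20, map_mul]; congr 2; push_cast; ring)
      (by rw [swap 15 21 23 _ (by decide) (by decide) h21, map_mul, map_mul]; congr 2; push_cast; ring)
      (cm (by decide) _ _) (cm (by decide) _ _) (cm (by decide) _ _) (cm (by decide) _ _)
      (cm (by decide) _ _) (cm (by decide) _ _)
      (by rw [x_add]; show _ * _ = _ * _; rw [x_add, x_add, add_comm])]
    rw [x_add, x_add, add_assoc]
  Cu t c := mk_eq FF hq1 hK <| by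
    simp only [Subgroup.coe_mul, hA_val, hB_val, hC_val, hD_val, hZ_val, hu_val, trD_val, nD_val, smul_val, alg_val, Subfield.coe_mul, Subfield.coe_neg, Subfield.coe_inv, SubmonoidClass.coe_pow, Subfield.coe_one]
    show x 17 c * (x 20 (-φ c) * x 21 (-φ (φ c))) * (x 18 (-t) * (x 13 (-φ t) * x 12 (-φ (φ t)))) =
      x 18 (-t) * (x 13 (-φ t) * x 12 (-φ (φ t))) * (x 17 c * (x 20 (-φ c) * x 21 (-φ (φ c))) *
        x 22 (-(t * c + φ (t * c) + φ (φ (t * c)))))
    obtain ⟨-, -, -, -, h17, h20, h21, -⟩ := terms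
    rw [cross (z1 := x 22 (-(t * c))) (z2 := x 22 (-φ (t * c))) (z3 := x 22 (-φ (φ (t * c))))
      (cm (by decide) _ _) (cm (by decide) _ _) (cm (by decide) _ _) (cm (by decide) _ _)
      (cm (by decide) _ _) (cm (by decide) _ _)
      (by rw [swap 18 17 22 _ (by decide) (by decide) h17]; congr 2; push_cast; ring)
      (by rw [swap 13 20 22 _ (by decide) (by decide) h20, map_mul]; congr 2; push_cast; ring)
      (by rw [swap 12 21 22 _ (by decide) (by decide) h21, map_mul, map_mul]; congr 2; push_cast; ring)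
      (cm (by decide) _ _) (cm (by decide) _ _) (cm (by decide) _ _) (cm (by decide) _ _)
      (cm (by decide) _ _) (cm (by decide) _ _)
      (by rw [x_add]; show _ * _ = _ * _; rw [x_add, x_add, add_comm])]
    rw [x_add, x_add]
    simp only [mul_assoc]
    congr 8
    ring
  Au t a := ⟨Multiplicative.ofAdd (-((t : K) * (a : K))), Multiplicative.ofAdd ((t : K) ^ 2 * (a : K)),
    Multiplicative.ofAdd (-(t ^ 3 * a ^ 2)), mk_eq FF hq1 hK <| by
      simp only [Subgroup.coe_mul, hA_val, hB_val, hC_val, hD_val, hZ_val, hu_val, trD_val, nD_val, smul_val, alg_val, Subfield.coe_mul, Subfield.coe_neg, Subfield.coe_inv, SubmonoidClass.coe_pow, Subfield.coe_one]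
      show x 14 (a : K) * (x 18 (-(t : K)) * (x 13 (-φ (t : K)) * x 12 (-φ (φ (t : K))))) =
        x 18 (-(t : K)) * (x 13 (-φ (t : K)) * x 12 (-φ (φ (t : K)))) *
          (x 14 (a : K) *
            (x 19 (-((t : K) * (a : K))) *
              (x 16 (-φ (-((t : K) * (a : K)))) * x 15 (-φ (φ (-((t : K) * (a : K))))))) *
            (x 17 ((t : K) ^ 2 * (a : K)) *
              (x 20 (-φ ((t : K) ^ 2 * (a : K))) * x 21 (-φ (φ ((t : K) ^ 2 * (a : K)))))) *
            x 22 (-(1 * (t : K) ^ 3 * (a : K))) * x 23 (-((t : K) ^ 3 * (a : K) ^ 2)))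
      simp only [map_neg, map_mul, map_pow, fix_val, neg_neg, one_mul]
      exact shear (t : K) (a : K)⟩
  h2Z s z := mk_eq FF hq1 hK <| by
    simp only [Subgroup.coe_mul, hA_val, hB_val, hC_val, hD_val, hZ_val, hu_val, trD_val, nD_val, smul_val, alg_val, Subfield.coe_mul, Subfield.coe_neg, Subfield.coe_inv, SubmonoidClass.coe_pow, Subfield.coe_one]
    show (tor FF hq1 hK 1 (fixU s) : GL chevD4.Idx K) * x 23 (z : K) =
      x 23 (((s : Fq φ) : K) * (z : K)) * (tor FF hq1 hK 1 (fixU s) : GL chevD4.Idx K)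
    rw [tor_x FF hq1 hK _ _ 23 cartan_rows.2.2.2.2.2.2.2.2]
    congr 2
    simp [fixU_val]
  h1Z s z := mk_eq FF hq1 hK <| by
    simp only [Subgroup.coe_mul, hA_val, hB_val, hC_val, hD_val, hZ_val, hu_val, trD_val, nD_val, smul_val, alg_val, Subfield.coe_mul, Subfield.coe_neg, Subfield.coe_inv, SubmonoidClass.coe_pow, Subfield.coe_one]
    show (hH1 FF hq1 hK s : GL chevD4.Idx K) * x 23 (z : K) =
      x 23 (((s : Fq φ) : K) ^ 2 * (z : K)) * (hH1 FF hq1 hK s : GL chevD4.Idx K)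
    exact h1_single FF hq1 hK s 23 cartan_rows.2.2.2.2.2.2.2.2 2 (by decide) _
  h1A s a := mk_eq FF hq1 hK <| by
    simp only [Subgroup.coe_mul, hA_val, hB_val, hC_val, hD_val, hZ_val, hu_val, trD_val, nD_val, smul_val, alg_val, Subfield.coe_mul, Subfield.coe_neg, Subfield.coe_inv, SubmonoidClass.coe_pow, Subfield.coe_one]
    show (hH1 FF hq1 hK s : GL chevD4.Idx K) * x 14 (a : K) =
      x 14 (((s : Fq φ) : K) * (a : K)) * (hH1 FF hq1 hK s : GL chevD4.Idx K)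
    rw [h1_single FF hq1 hK s 14 cartan_rows.1 1 (by decide), pow_one]
  h1B s b := mk_eq FF hq1 hK <| by
    simp only [Subgroup.coe_mul, hA_val, hB_val, hC_val, hD_val, hZ_val, hu_val, trD_val, nD_val, smul_val, alg_val, Subfield.coe_mul, Subfield.coe_neg, Subfield.coe_inv, SubmonoidClass.coe_pow, Subfield.coe_one]
    show (hH1 FF hq1 hK s : GL chevD4.Idx K) * (x 19 b * (x 16 (-φ b) * x 15 (-φ (φ b)))) =
      x 19 (((s : Fq φ) : K) * b) * (x 16 (-φ (((s : Fq φ) : K) * b)) *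
        x 15 (-φ (φ (((s : Fq φ) : K) * b)))) * (hH1 FF hq1 hK s : GL chevD4.Idx K)
    rw [h1_orbit FF hq1 hK s cartan_rows.2.1 cartan_rows.2.2.1 cartan_rows.2.2.2.1 (by decide)
      (by decide) (by decide)]
    simp only [map_mul, fix_val, mul_neg]
  h1C s c := mk_eq FF hq1 hK <| by
    simp only [Subgroup.coe_mul, hA_val, hB_val, hC_val, hD_val, hZ_val, hu_val, trD_val, nD_val, smul_val, alg_val, Subfield.coe_mul, Subfield.coe_neg, Subfield.coe_inv, SubmonoidClass.coe_pow, Subfield.coe_one]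
    show (hH1 FF hq1 hK s : GL chevD4.Idx K) * (x 17 c * (x 20 (-φ c) * x 21 (-φ (φ c)))) =
      x 17 (((s : Fq φ) : K) * c) * (x 20 (-φ (((s : Fq φ) : K) * c)) *
        x 21 (-φ (φ (((s : Fq φ) : K) * c)))) * (hH1 FF hq1 hK s : GL chevD4.Idx K)
    rw [h1_orbit FF hq1 hK s cartan_rows.2.2.2.2.1 cartan_rows.2.2.2.2.2.1 cartan_rows.2.2.2.2.2.2.1
      (by decide) (by decide) (by decide)]
    simp only [map_mul, fix_val, mul_neg]
  h1D s d := mk_eq FF hq1 hK <| by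
    simp only [Subgroup.coe_mul, hA_val, hB_val, hC_val, hD_val, hZ_val, hu_val, trD_val, nD_val, smul_val, alg_val, Subfield.coe_mul, Subfield.coe_neg, Subfield.coe_inv, SubmonoidClass.coe_pow, Subfield.coe_one]
    show (hH1 FF hq1 hK s : GL chevD4.Idx K) * x 22 (-(d : K)) =
      x 22 (-(((s : Fq φ) : K) * (d : K))) * (hH1 FF hq1 hK s : GL chevD4.Idx K)
    rw [h1_single FF hq1 hK s 22 cartan_rows.2.2.2.2.2.2.2.1 1 (by decide), pow_one, mul_neg]
  N_ne k := nD_ne FF k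
  hkZ k z := comGr FF hq1 hK <| by
    obtain ⟨z, rfl⟩ := Multiplicative.ofAdd.surjective z
    show (tor FF hq1 hK k (fixU 1) : GL chevD4.Idx K) * x 23 (z : K) = x 23 (z : K) * _
    rw [tor_x FF hq1 hK _ _ 23 cartan_rows.2.2.2.2.2.2.2.2]
    simp [fixU_val, hHk]
  hkA k a := mk_eq FF hq1 hK <| by
    simp only [Subgroup.coe_mul, hA_val, hB_val, hC_val, hD_val, hZ_val, hu_val, trD_val, nD_val, smul_val, alg_val, Subfield.coe_mul, Subfield.coe_neg, Subfield.coe_inv, SubmonoidClass.coe_pow, Subfield.coe_one]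
    show (tor FF hq1 hK k (fixU 1) : GL chevD4.Idx K) * x 14 (a : K) =
      x 14 (((k : K) * φ k * φ (φ k))⁻¹ * (a : K)) * (tor FF hq1 hK k (fixU 1) : GL chevD4.Idx K)
    rw [tor_x FF hq1 hK _ _ 14 cartan_rows.1]
    congr 3
    simp [fixU_val]
    ring
  hkB k b := mk_eq FF hq1 hK <| by
    have h0 : (k : K) ≠ 0 := k.ne_zero
    have h1 : φ (k : K) ≠ 0 := (map_ne_zero φ).2 h0
    have h2 : φ (φ (k : K)) ≠ 0 := (map_ne_zero φ).2 h1
    simp only [Subgroup.coe_mul, hB_val, nD_val, smul_val, Subfield.coe_inv]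
    show (tor FF hq1 hK k (fixU 1) : GL chevD4.Idx K) * (x 19 b * (x 16 (-φ b) * x 15 (-φ (φ b)))) =
      x 19 (((k : K) * φ k * φ (φ k))⁻¹ * ((k : K) ^ 2 * b)) *
        (x 16 (-φ (((k : K) * φ k * φ (φ k))⁻¹ * ((k : K) ^ 2 * b))) *
          x 15 (-φ (φ (((k : K) * φ k * φ (φ k))⁻¹ * ((k : K) ^ 2 * b))))) *
        (tor FF hq1 hK k (fixU 1) : GL chevD4.Idx K)
    refine tor_orbit FF hq1 hK _ _ cartan_rows.2.1 cartan_rows.2.2.1 cartan_rows.2.2.2.1 _ _ _ ?_ ?_ ?_ <;>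
      simp [fixU_val, map_inv₀, cube FF] <;> field_simp
  hkC k c := mk_eq FF hq1 hK <| by
    have h0 : (k : K) ≠ 0 := k.ne_zero
    have h1 : φ (k : K) ≠ 0 := (map_ne_zero φ).2 h0
    have h2 : φ (φ (k : K)) ≠ 0 := (map_ne_zero φ).2 h1
    simp only [Subgroup.coe_mul, hC_val, nD_val, smul_val]
    show (tor FF hq1 hK k (fixU 1) : GL chevD4.Idx K) * (x 17 c * (x 20 (-φ c) * x 21 (-φ (φ c)))) =
      x 17 ((k : K) * φ k * φ (φ k) * ((k : K)⁻¹ ^ 2 * c)) *
        (x 20 (-φ ((k : K) * φ k * φ (φ k) * ((k : K)⁻¹ ^ 2 * c))) *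
          x 21 (-φ (φ ((k : K) * φ k * φ (φ k) * ((k : K)⁻¹ ^ 2 * c))))) *
        (tor FF hq1 hK k (fixU 1) : GL chevD4.Idx K)
    refine tor_orbit FF hq1 hK _ _ cartan_rows.2.2.2.2.1 cartan_rows.2.2.2.2.2.1
      cartan_rows.2.2.2.2.2.2.1 _ _ _ ?_ ?_ ?_ <;>
      simp [fixU_val, map_inv₀, cube FF] <;> field_simp
  hkD k d := mk_eq FF hq1 hK <| by
    simp only [Subgroup.coe_mul, hA_val, hB_val, hC_val, hD_val, hZ_val, hu_val, trD_val, nD_val, smul_val, alg_val, Subfield.coe_mul, Subfield.coe_neg, Subfield.coe_inv, SubmonoidClass.coe_pow, Subfield.coe_one]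
    show (tor FF hq1 hK k (fixU 1) : GL chevD4.Idx K) * x 22 (-(d : K)) =
      x 22 (-((k : K) * φ k * φ (φ k) * (d : K))) * (tor FF hq1 hK k (fixU 1) : GL chevD4.Idx K)
    rw [tor_x FF hq1 hK _ _ 22 cartan_rows.2.2.2.2.2.2.2.1]
    congr 2
    simp [fixU_val]
  n2Z := by
    obtain ⟨e, he, h⟩ := weyl_x FF hq1 hK 0 23 22 ⟨pi_vals.2.2.1, eps_vals.2.2.1⟩
      ⟨pi_vals.2.1, eps_vals.2.1⟩ wImg.2.2.2
    exact ⟨-e, neg_ne_zero.2 he, fun z => mk_eq FF hq1 hK <| by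
      simp only [Subgroup.coe_mul, hA_val, hB_val, hC_val, hD_val, hZ_val, hu_val, trD_val, nD_val, smul_val, alg_val, Subfield.coe_mul, Subfield.coe_neg, Subfield.coe_inv, SubmonoidClass.coe_pow, Subfield.coe_one]
      show (weyl FF hq1 hK 0 : GL chevD4.Idx K) * x 23 (z : K) =
        x 22 (-(-(e : K) * (z : K))) * (weyl FF hq1 hK 0 : GL chevD4.Idx K)
      rw [h z, neg_mul, neg_neg]⟩
  wZ := by
    obtain ⟨e, he, h⟩ := weyl_x FF hq1 hK 1 23 23 ⟨pi_vals.2.2.1, eps_vals.2.2.1⟩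
      ⟨pi_vals.2.2.1, eps_vals.2.2.1⟩ wImg.2.2.1
    exact ⟨e, he, fun z => mk_eq FF hq1 hK (h z)⟩
  wA := by
    obtain ⟨e, he, h⟩ := weyl_x FF hq1 hK 1 14 22 ⟨pi_vals.1, eps_vals.1⟩
      ⟨pi_vals.2.1, eps_vals.2.1⟩ wImg.1
    exact ⟨-e, neg_ne_zero.2 he, fun z => mk_eq FF hq1 hK <| by
      simp only [Subgroup.coe_mul, hA_val, hB_val, hC_val, hD_val, hZ_val, hu_val, trD_val, nD_val, smul_val, alg_val, Subfield.coe_mul, Subfield.coe_neg, Subfield.coe_inv, SubmonoidClass.coe_pow, Subfield.coe_one]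
      show (weyl FF hq1 hK 1 : GL chevD4.Idx K) * x 14 (z : K) =
        x 22 (-(-(e : K) * (z : K))) * (weyl FF hq1 hK 1 : GL chevD4.Idx K)
      rw [h z, neg_mul, neg_neg]⟩
  wD := by
    obtain ⟨e, he, h⟩ := weyl_x FF hq1 hK 1 22 14 ⟨pi_vals.2.1, eps_vals.2.1⟩
      ⟨pi_vals.1, eps_vals.1⟩ wImg.2.1
    exact ⟨-e, neg_ne_zero.2 he, fun z => mk_eq FF hq1 hK <| by
      simp only [Subgroup.coe_mul, hA_val, hB_val, hC_val, hD_val, hZ_val, hu_val, trD_val, nD_val, smul_val, alg_val, Subfield.coe_mul, Subfield.coe_neg, Subfield.coe_inv, SubmonoidClass.coe_pow, Subfield.coe_one]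
      show (weyl FF hq1 hK 1 : GL chevD4.Idx K) * x 22 (-(z : K)) =
        x 14 (-(e : K) * (z : K)) * (weyl FF hq1 hK 1 : GL chevD4.Idx K)
      rw [show -(z : K) = ((-z : Fq φ) : K) from rfl, h (-z)]
      push_cast
      rw [mul_neg, neg_mul]⟩

end Cfsg.Agent.Lib.ExcDeg48.D4Model
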