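import Cfsg.Agent.Lib.ExcDeg48.D4Abstract
import Cfsg.Agent.Lib.LieTwisted.Twist.D4Thms

/-!
The Heisenberg parabolic of the triality groups in the adjoint model.
-/

set_option autoImplicit false
set_option maxRecDepth 100000
set_option linter.unusedSectionVars false

namespace Cfsg.Agent.Lib.ExcDeg48.D4Model

open Cfsg.Lie Cfsg.Agent.Lib.ChevStructure Cfsg.Agent.Lib.LieTwisted.Twist
open scoped MatrixGroups

variable {K : Type*} [Field K]

/-- A root element, the root given by its index. -/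
noncomputable def x (r : Fin 24) (t : K) : GL chevD4.Idx K := D4.C.X K (⟨r.val, r.isLt⟩ : Rt chevD4) t

theorem x_add (r : Fin 24) (t u : K) : x r t * x r u = x r (t + u) := D4.C.X_add K _ t u

theorem x_zero (r : Fin 24) : x r (0 : K) = 1 := D4.C.X_zero K _

theorem x_eq_zero {r : Fin 24} {t : K} (h : x r t = 1) : t = 0 :=
  (D4.C.x_eq_one_iff _ t).1 (congrArg Units.val h)

theorem x_inj {r : Fin 24} {t u : K} (h : x r t = x r u) : t = u := by
  have : x r (t + -u) = 1 := by rw [← x_add, h, x_add, add_neg_cancel, x_zero]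
  exact eq_of_sub_eq_zero (by rw [sub_eq_add_neg]; exact x_eq_zero this)

theorem commOK : CommOK D4.C := Cert.D4.core.commOK_mild mildD4

theorem swap (r s q : Fin 24) (M : ℤ) (hrs : s ≠ r) (hne : s.val + r.val ≠ 23)
    (h : chevD4.commTerms r.val s.val = [(q.val, M, 1, 1)]) (t u : K) :
    x s u * x r t = x r t * x s u * x q (-((M : K) * t * u)) := by
  have h' := commOK.comm_X (⟨r.val, r.isLt⟩ : Rt chevD4) ⟨s.val, s.isLt⟩
    (fun e => hrs (Fin.ext (congrArg (fun z : Rt chevD4 => z.val) e))) (fun e => hne ?_) t u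
  · rw [x, x, x]
    refine h'.trans ?_
    show _ * ((chevD4.commTerms r.val s.val).map _).prod = _
    rw [h, List.map_cons, List.map_nil, List.prod_cons, List.prod_nil, mul_one, Core.XN]
    rw [dif_pos (show q.val < chevD4.nroots from q.isLt)]
    simp only [pow_one, mul_neg, neg_mul]
  · have := congrArg (fun z : Rt chevD4 => z.val) e
    simp only [Fin.val_rev] at this
    have := r.isLt
    show s.val + r.val = 23
    have h24 : chevD4.nroots = 24 := rfl
    omega

theorem comm (r s : Fin 24) (hne : s.val + r.val ≠ 23) (h : chevD4.commTerms r.val s.val = [])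
    (t u : K) : Commute (x s u) (x r t) := by
  by_cases hrs : s = r
  · subst hrs
    show x s u * x s t = x s t * x s u
    rw [x_add, x_add, add_comm]
  have h' := commOK.comm_X (⟨r.val, r.isLt⟩ : Rt chevD4) ⟨s.val, s.isLt⟩
    (fun e => hrs (Fin.ext (congrArg (fun z : Rt chevD4 => z.val) e))) (fun e => hne ?_) t u
  · show x s u * x r t = x r t * x s u
    rw [x, x]
    refine h'.trans ?_
    show _ * ((chevD4.commTerms r.val s.val).map _).prod = _
    rw [h, List.map_nil, List.prod_nil, mul_one]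
  · have := congrArg (fun z : Rt chevD4 => z.val) e
    simp only [Fin.val_rev] at this
    have := r.isLt
    show s.val + r.val = 23
    have h24 : chevD4.nroots = 24 := rfl
    omega

/-- The commuting pairs used. -/
def pairs : List (Fin 24 × Fin 24) :=
  [(14, 23), (15, 23), (16, 23), (17, 23), (19, 23), (20, 23), (21, 23), (22, 23), (12, 23), (13, 23),
   (18, 23), (14, 19), (14, 16), (14, 15), (14, 17), (14, 20), (14, 21), (19, 22), (16, 22), (15, 22),
   (17, 22), (20, 22), (21, 22), (18, 22), (13, 22), (12, 22), (19, 16), (19, 15), (16, 15),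
   (17, 20), (17, 21), (20, 21), (18, 13), (18, 12), (13, 12), (19, 20), (19, 21), (16, 17), (16, 21),
   (15, 17), (15, 20), (17, 13), (17, 12), (20, 18), (20, 12), (21, 18), (21, 13)]

theorem pairs_ok : pairs.all (fun p =>
    decide (p.1.val + p.2.val ≠ 23) && decide (p.2.val + p.1.val ≠ 23) &&
      decide (chevD4.commTerms p.1.val p.2.val = []) && decide (chevD4.commTerms p.2.val p.1.val = [])) =
    true := by decide +kernel

theorem cm {r s : Fin 24} (h : (r, s) ∈ pairs ∨ (s, r) ∈ pairs) (t u : K) : Commute (x r t) (x s u) := by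
  rcases h with h | h <;> have := List.all_eq_true.1 pairs_ok _ h <;>
    simp only [Bool.and_eq_true, decide_eq_true_eq] at this
  · exact comm s r this.1.1.1 this.2 u t
  · exact comm s r this.1.1.2 this.1.2 u t

theorem terms :
    chevD4.commTerms 14 22 = [(23, 1, 1, 1)] ∧ chevD4.commTerms 19 17 = [(23, -1, 1, 1)] ∧
    chevD4.commTerms 16 20 = [(23, -1, 1, 1)] ∧ chevD4.commTerms 15 21 = [(23, -1, 1, 1)] ∧
    chevD4.commTerms 18 17 = [(22, -1, 1, 1)] ∧ chevD4.commTerms 13 20 = [(22, 1, 1, 1)] ∧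
    chevD4.commTerms 12 21 = [(22, 1, 1, 1)] ∧ chevD4.commTerms 18 14 = [(19, -1, 1, 1)] ∧
    chevD4.commTerms 13 14 = [(16, 1, 1, 1)] ∧ chevD4.commTerms 13 19 = [(21, 1, 1, 1)] ∧
    chevD4.commTerms 12 14 = [(15, 1, 1, 1)] ∧ chevD4.commTerms 12 16 = [(17, 1, 1, 1)] ∧
    chevD4.commTerms 12 19 = [(20, 1, 1, 1)] := by
  refine ⟨?_, ?_, ?_, ?_, ?_, ?_, ?_, ?_, ?_, ?_, ?_, ?_, ?_⟩ <;> decide +kernel

/-- The Levi part of a lowest root element, modulo the later root groups. -/
theorem shear (t a : K) :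
    x 14 a * (x 18 (-t) * (x 13 (-t) * x 12 (-t))) =
      x 18 (-t) * (x 13 (-t) * x 12 (-t)) *
        (x 14 a * (x 19 (-(t * a)) * (x 16 (t * a) * x 15 (t * a))) *
          (x 17 (t ^ 2 * a) * (x 20 (-(t ^ 2 * a)) * x 21 (-(t ^ 2 * a)))) *
          x 22 (-(t ^ 3 * a)) * x 23 (-(t ^ 3 * a ^ 2))) := by
  obtain ⟨-, h17, -, -, -, -, h21, h18, h13, h1319, h12, h1216, h1219⟩ := terms
  have d1 : ∀ a, x 14 a * x 18 (-t) = x 18 (-t) * (x 14 a * x 19 (-(t * a))) := fun a => by
    rw [swap 18 14 19 _ (by decide) (by decide) h18, mul_assoc]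
    congr 3; push_cast; ring
  have d2 : ∀ a, x 14 a * x 13 (-t) = x 13 (-t) * (x 14 a * x 16 (t * a)) := fun a => by
    rw [swap 13 14 16 _ (by decide) (by decide) h13, mul_assoc]
    congr 3; push_cast; ring
  have d3 : ∀ a, x 19 a * x 13 (-t) = x 13 (-t) * (x 19 a * x 21 (t * a)) := fun a => by
    rw [swap 13 19 21 _ (by decide) (by decide) h1319, mul_assoc]
    congr 3; push_cast; ring
  have d4 : ∀ a, x 14 a * x 12 (-t) = x 12 (-t) * (x 14 a * x 15 (t * a)) := fun a => by
    rw [swap 12 14 15 _ (by decide) (by decide) h12, mul_assoc]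
    congr 3; push_cast; ring
  have d5 : ∀ a, x 16 a * x 12 (-t) = x 12 (-t) * (x 16 a * x 17 (t * a)) := fun a => by
    rw [swap 12 16 17 _ (by decide) (by decide) h1216, mul_assoc]
    congr 3; push_cast; ring
  have d6 : ∀ a, x 19 a * x 12 (-t) = x 12 (-t) * (x 19 a * x 20 (t * a)) := fun a => by
    rw [swap 12 19 20 _ (by decide) (by decide) h1219, mul_assoc]
    congr 3; push_cast; ring
  have d7 : ∀ a, x 21 a * x 12 (-t) = x 12 (-t) * (x 21 a * x 22 (t * a)) := fun a => by
    rw [swap 12 21 22 _ (by decide) (by decide) h21, mul_assoc]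
    congr 3; push_cast; ring
  have e : x 14 a * (x 18 (-t) * (x 13 (-t) * x 12 (-t))) = x 18 (-t) * (x 13 (-t) * x 12 (-t)) *
      ((x 14 a * x 15 (t * a)) * ((x 16 (t * a) * x 17 (t * (t * a))) *
        ((x 19 (-(t * a)) * x 20 (t * -(t * a))) *
          (x 21 (t * -(t * a)) * x 22 (t * (t * -(t * a))))))) := by
    rw [← mul_assoc, d1, mul_assoc, mul_assoc, ← mul_assoc (x 19 _) (x 13 _), d3]
    simp only [mul_assoc]
    rw [← mul_assoc (x 14 a) (x 13 _), d2]
    simp only [mul_assoc]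
    rw [d7, ← mul_assoc (x 19 _) (x 12 _), d6]
    simp only [mul_assoc]
    rw [← mul_assoc (x 16 _) (x 12 _), d5]
    simp only [mul_assoc]
    rw [← mul_assoc (x 14 a) (x 12 _), d4]
    simp only [mul_assoc]
  rw [e]
  simp only [mul_assoc]
  congr 1
  rw [show t * (t * a) = t ^ 2 * a by ring, show t * -(t * a) = -(t ^ 2 * a) by ring,
    show t * -(t ^ 2 * a) = -(t ^ 3 * a) by ring]
  congr 3
  -- bring `x 15`, `x 16`, `x 17` and `x 19` into order
  have c1716 : Commute (x 16 (t * a)) (x 17 (t ^ 2 * a)) := cm (by decide) _ _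
  have s1 : x 17 (t ^ 2 * a) * x 19 (-(t * a)) =
      x 19 (-(t * a)) * x 17 (t ^ 2 * a) * x 23 (-(t ^ 3 * a ^ 2)) := by
    rw [swap 19 17 23 _ (by decide) (by decide) h17]
    congr 2; push_cast; ring
  have z20 : ∀ y z, Commute (x 23 y) (x 20 (z : K)) := fun y z => cm (by decide) _ _
  have z21 : ∀ y z, Commute (x 23 y) (x 21 (z : K)) := fun y z => cm (by decide) _ _
  have z22 : ∀ y z, Commute (x 23 y) (x 22 (z : K)) := fun y z => cm (by decide) _ _
  rw [show x 15 (t * a) * (x 16 (t * a) * (x 17 (t ^ 2 * a) * (x 19 (-(t * a)) *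
      (x 20 (-(t ^ 2 * a)) * (x 21 (-(t ^ 2 * a)) * x 22 (-(t ^ 3 * a))))))) =
      x 15 (t * a) * (x 16 (t * a) * ((x 17 (t ^ 2 * a) * x 19 (-(t * a))) *
      (x 20 (-(t ^ 2 * a)) * (x 21 (-(t ^ 2 * a)) * x 22 (-(t ^ 3 * a)))))) by simp only [mul_assoc],
    s1]
  simp only [mul_assoc]
  rw [← mul_assoc (x 23 _) (x 20 _), (z20 _ _).eq, mul_assoc, ← mul_assoc (x 23 _) (x 21 _),
    (z21 _ _).eq, mul_assoc, (z22 _ _).eq]
  rw [← mul_assoc (x 16 (t * a)) (x 19 _),
    (cm (by decide) _ _ : Commute (x 16 (t * a)) (x 19 (-(t * a)))).eq, mul_assoc,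
    ← mul_assoc (x 15 (t * a)) (x 19 _),
    (cm (by decide) _ _ : Commute (x 15 (t * a)) (x 19 (-(t * a)))).eq, mul_assoc,
    ← mul_assoc (x 15 (t * a)) (x 16 _),
    (cm (by decide) _ _ : Commute (x 15 (t * a)) (x 16 (t * a))).eq, mul_assoc]

end Cfsg.Agent.Lib.ExcDeg48.D4Model
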