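import Cfsg.Agent.Lib.Ree.Basic
import Cfsg.Agent.Lib.UniDeg48.Eigen
import Mathlib.NumberTheory.GaussSum
import Mathlib.NumberTheory.LegendreSymbol.QuadraticChar.Basic

/-!
The minimal degree of a non-trivial representation of the small Ree group: the restriction to
the Borel subgroup gives `q(q−1)`, and a determinant excludes equality.
-/

set_option autoImplicit false
set_option linter.unusedSectionVars false

namespace Cfsg.Agent.Lib.ExcDeg48

open Module Cfsg.Agent.Lib.UniDeg48 Cfsg.Agent.Lib.MinDegree Cfsg.Agent.Lib.Ree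
open Cfsg.Agent.Lib.LieTwisted.Ree (reeU ordP_mul)

variable {K : Type*} [Field K] [CharP K 3] [Fintype K] {m : ℕ}
  [hF : Fact (Fintype.card K = 3 ^ (2 * m + 1))]

/-- The abelian normal subgroup of `U¹`. -/
noncomputable def phi : Multiplicative (K × K) →* G K m :=
  MonoidHom.mk' (fun a => gU 0 a.toAdd.1 a.toAdd.2) (fun a b => (gU0_mul _ _ _ _).symm)

theorem phi_apply (a : K × K) : (phi (Multiplicative.ofAdd a) : G K m) = gU 0 a.1 a.2 := rfl

theorem gU0_shift (t u v : K) :
    (gU 0 u v : G K m) * gU t 0 0 = gU t 0 0 * gU 0 u (v - u * t) := by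
  apply Subtype.ext
  show reeU m 0 u v * reeU m t 0 0 = reeU m t 0 0 * reeU m 0 u (v - u * t)
  have he : (3 : ℕ) ^ m ≠ 0 := by positivity
  simp only [reeU, ordP_mul, zero_pow he, sub_pow_char_pow, mul_pow]
  congr 1 <;> simp [zero_pow he] <;> ring

/-- The action of `x_t h_y` on the abelian subgroup. -/
noncomputable def act (m : ℕ) (t : K) (y : Kˣ) : K × K →+ K × K where
  toFun a := ((scB m y)⁻¹ * a.1, (y : K)⁻¹ * (a.2 - a.1 * t))
  map_zero' := by simp
  map_add' a b := by
    simp only [Prod.fst_add, Prod.snd_add, Prod.mk_add_mk, Prod.mk.injEq]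
    constructor <;> ring

theorem phi_act (t : K) (y : Kˣ) (a : K × K) :
    phi (Multiplicative.ofAdd a) * (gU t 0 0 * gH y : G K m) =
      gU t 0 0 * gH y * phi (Multiplicative.ofAdd (act m t y a)) := by
  have hB : scB (K := K) m y ≠ 0 :=
    div_ne_zero (pow_ne_zero _ (pow_ne_zero _ y.ne_zero)) y.ne_zero
  rw [phi_apply, phi_apply, ← mul_assoc, gU0_shift, mul_assoc, mul_assoc]
  congr 1
  rw [gH_gU]
  simp [act, ← mul_assoc, mul_inv_cancel₀ hB, mul_inv_cancel₀ y.ne_zero]

variable {M : Type*} [AddCommGroup M] [Module ℂ M] [FiniteDimensional ℂ M]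
  (ρ : Representation ℂ (G K m) M)

theorem map_eig (t : K) (y : Kˣ) {χ : AddChar (K × K) ℂ} {z : M} (hz : z ∈ eigSub ρ phi χ) :
    ρ (gU t 0 0 * gH y) z ∈ eigSub ρ phi (χ.compAddMonoidHom (act m t y)) := by
  rw [mem_eigSub] at hz ⊢
  intro a
  rw [← Module.End.mul_apply, ← map_mul, phi_act, map_mul, Module.End.mul_apply, hz, map_smul]
  rfl

/-- The degree is greater than `q(q−1)`. -/
theorem ree_bound (hm : 1 ≤ m) (hnt : ∃ g, ρ g ≠ 1) :
    Fintype.card K * (Fintype.card K - 1) < finrank ℂ M := by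
  classical
  by_contra hle
  push Not at hle
  set q := Fintype.card K with hq
  have hinj : ∀ g, Function.Injective (ρ g) := fun g a b h => by
    have := congrArg (ρ g⁻¹) h
    rwa [← Module.End.mul_apply, ← Module.End.mul_apply, ← map_mul, inv_mul_cancel, map_one,
      Module.End.one_apply, Module.End.one_apply] at this
  obtain ⟨χ0, hχ0, hν0⟩ : ∃ χ : AddChar (K × K) ℂ, eigSub ρ phi χ ≠ ⊥ ∧
      χ.compAddMonoidHom (AddMonoidHom.inr K K) ≠ 1 := by
    by_contra hcon
    push Not at hcon
    obtain ⟨g, hg⟩ := hnt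
    haveI := LieTwisted.Ree.simpleRee (K := K) hF.out hm
    have hz : ρ (gU 0 0 1 : G K m) = 1 := by
      refine LinearMap.ext fun z => ?_
      rw [Module.End.one_apply]
      conv_rhs => rw [← sum_eigenProj ρ phi z]
      conv_lhs => rw [← sum_eigenProj ρ phi z, map_sum]
      refine Finset.sum_congr rfl fun χ _ => ?_
      have hmem : eigenProj ρ phi χ z ∈ eigSub ρ phi χ :=
        range_eigenProj ρ phi χ ▸ LinearMap.mem_range_self _ z
      by_cases h : eigSub ρ phi χ = ⊥
      · rw [h, Submodule.mem_bot] at hmem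
        rw [hmem, map_zero]
      · have h1 := (mem_eigSub ρ phi).1 hmem (0, 1)
        rw [phi_apply, show χ (0, 1) = 1 from DFunLike.congr_fun (hcon χ h) 1, one_smul] at h1
        exact h1
    rcases Subgroup.Normal.eq_bot_or_eq_top (MonoidHom.normal_ker ρ) with h | h
    · have h1 : (gU 0 0 1 : G K m) ∈ (⊥ : Subgroup (G K m)) := h ▸ MonoidHom.mem_ker.2 hz
      exact one_ne_zero (gU_inj ((Subgroup.mem_bot.1 h1).trans gU_zero.symm)).2.2
    · exact hg (MonoidHom.mem_ker.1 (show g ∈ MonoidHom.ker ρ by rw [h]; trivial))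
  set Ψ : K × Kˣ → AddChar (K × K) ℂ := fun p => χ0.compAddMonoidHom (act m p.1 p.2) with hΨ
  have hprim : (χ0.compAddMonoidHom (AddMonoidHom.inr K K)).IsPrimitive :=
    AddChar.IsPrimitive.of_ne_one hν0
  have hΨinj : Function.Injective Ψ := by
    rintro ⟨t, y⟩ ⟨t', y'⟩ h
    have h1 : y = y' := by
      refine Units.ext (inv_injective (AddChar.to_mulShift_inj_of_isPrimitive hprim ?_))
      ext v
      have := DFunLike.congr_fun h ((0 : K), v)
      simpa [hΨ, act, AddChar.mulShift_apply] using this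
    subst h1
    have h2 : t = t' := by
      have h3 : -((y : K)⁻¹ * t) = -((y : K)⁻¹ * t') := by
        refine AddChar.to_mulShift_inj_of_isPrimitive hprim ?_
        ext u
        have h4 := DFunLike.congr_fun h (u, (0 : K))
        have e : ∀ s : K, ((scB m y)⁻¹ * u, (y : K)⁻¹ * (0 - u * s)) =
            (((scB m y)⁻¹ * u, (0 : K)) : K × K) + (0, -((y : K)⁻¹ * s) * u) := fun s => by
          simp [Prod.mk.injEq]; ring
        simp only [hΨ, act, AddChar.compAddMonoidHom_apply, AddMonoidHom.coe_mk, ZeroHom.coe_mk,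
          e, AddChar.map_add_eq_mul] at h4
        simp only [AddChar.mulShift_apply, AddChar.compAddMonoidHom_apply, AddMonoidHom.inr_apply]
        exact mul_left_cancel₀ (χ0.val_isUnit _).ne_zero h4
      exact mul_left_cancel₀ (inv_ne_zero y.ne_zero) (neg_injective h3)
    rw [h2]
  have hd : ∀ p, 1 ≤ finrank ℂ (eigSub ρ phi (Ψ p)) := fun p => by
    obtain ⟨z, hz, hz0⟩ := Submodule.exists_mem_ne_zero_of_ne_bot hχ0
    exact Module.finrank_pos_iff.2 (Submodule.nontrivial_iff_ne_bot.2 fun e => hz0 (hinj _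
      ((Submodule.mem_bot ℂ).1 (e ▸ map_eig ρ p.1 p.2 hz) |>.trans (map_zero _).symm)))
  have hsum := sum_finrank_eigSub ρ (phi (K := K) (m := m))
  rw [← Finset.sum_add_sum_compl (Finset.univ.image Ψ)] at hsum
  have hcard : (Finset.univ.image Ψ).card = q * (q - 1) := by
    rw [Finset.card_image_of_injective _ hΨinj, Finset.card_univ, Fintype.card_prod,
      Fintype.card_units]
  have hge : q * (q - 1) ≤ ∑ χ ∈ Finset.univ.image Ψ, finrank ℂ (eigSub ρ phi χ) := by
    rw [← hcard, Finset.card_eq_sum_ones]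
    refine Finset.sum_le_sum fun χ hχ => ?_
    obtain ⟨p, -, rfl⟩ := Finset.mem_image.1 hχ
    exact hd p
  have hdim : finrank ℂ M = q * (q - 1) := by omega
  -- only characters which are non-trivial on the centre occur
  have hν : ∀ χ, eigSub ρ phi χ ≠ ⊥ → χ.compAddMonoidHom (AddMonoidHom.inr K K) ≠ 1 := by
    intro χ hχ he
    have h0 : ∑ χ ∈ (Finset.univ.image Ψ)ᶜ, finrank ℂ (eigSub ρ phi χ) = 0 := by omega
    have hmem : χ ∈ (Finset.univ.image Ψ)ᶜ := by
      rw [Finset.mem_compl, Finset.mem_image]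
      rintro ⟨⟨t, y⟩, -, rfl⟩
      refine hν0 (DFunLike.ext _ _ fun v => ?_)
      have := DFunLike.congr_fun he ((y : K) * v)
      simpa [hΨ, act, ← mul_assoc] using this
    exact hχ (Submodule.finrank_eq_zero.1 (Finset.sum_eq_zero_iff.1 h0 χ hmem))
  have hq4 : q % 4 = 3 := by
    have h := hF.out
    rw [h, pow_succ, pow_mul, Nat.mul_mod, Nat.pow_mod]
    norm_num
  have h2K : ringChar K ≠ 2 := by rw [ringChar.eq K 3]; decide
  set c : MulChar K ℂ := (quadraticChar K).ringHomComp (Int.castRingHom ℂ) with hc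
  have hc1 : c (-1) = -1 := by
    have h : quadraticChar K (-1) = -1 := by
      rw [quadraticChar_neg_one_iff_not_isSquare, FiniteField.isSquare_neg_one_iff, ← hq, hq4]
      simp
    rw [hc, MulChar.ringHomComp_apply, h]
    simp
  have hcne : c ≠ 1 := fun h => by
    have e := congrArg (fun f : MulChar K ℂ => f (-1)) h
    simp only [hc1, MulChar.one_apply (isUnit_one.neg : IsUnit (-1 : K))] at e
    norm_num at e
  -- an invertible operator anticommuting with `h(-1)`
  let T : Module.End ℂ M := ∑ v : K, c v • ρ (phi (Multiplicative.ofAdd ((0 : K), v)))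
  have hT : ∀ z, T z = ∑ v : K, c v • ρ (phi (Multiplicative.ofAdd ((0 : K), v))) z := fun z => by
    simp [T]
  have hTsurj : Function.Surjective T := by
    intro z
    refine ⟨∑ χ : AddChar (K × K) ℂ, (gaussSum c (χ.compAddMonoidHom (AddMonoidHom.inr K K)))⁻¹ •
      eigenProj ρ phi χ z, ?_⟩
    conv_rhs => rw [← sum_eigenProj ρ phi z]
    rw [map_sum]
    refine Finset.sum_congr rfl fun χ _ => ?_
    have hmem : eigenProj ρ phi χ z ∈ eigSub ρ phi χ :=
      range_eigenProj ρ phi χ ▸ LinearMap.mem_range_self _ z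
    by_cases h : eigSub ρ phi χ = ⊥
    · rw [h, Submodule.mem_bot] at hmem
      rw [hmem, smul_zero, map_zero]
    · have hg : gaussSum c (χ.compAddMonoidHom (AddMonoidHom.inr K K)) ≠ 0 :=
        gaussSum_ne_zero_of_nontrivial (Nat.cast_ne_zero.2 Fintype.card_ne_zero) hcne
          (AddChar.IsPrimitive.of_ne_one (hν χ h))
      have hTz : T (eigenProj ρ phi χ z) =
          gaussSum c (χ.compAddMonoidHom (AddMonoidHom.inr K K)) • eigenProj ρ phi χ z := by
        rw [hT, gaussSum, Finset.sum_smul]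
        refine Finset.sum_congr rfl fun v _ => ?_
        rw [(mem_eigSub ρ phi).1 hmem, smul_smul]
        rfl
      rw [map_smul, hTz, smul_smul, inv_mul_cancel₀ hg, one_smul]
  have hTinj : Function.Injective T := LinearMap.injective_iff_surjective.2 hTsurj
  set J : Module.End ℂ M := ρ (gH (-1)) with hJ
  have hJJ : ∀ z, J (J z) = z := fun z => by
    rw [hJ, ← Module.End.mul_apply, ← map_mul, a_sq, map_one, Module.End.one_apply]
  have hJT : ∀ z, J (T z) = -T (J z) := by
    intro z
    rw [hT, hT, map_sum, ← Finset.sum_neg_distrib, ← Equiv.sum_comp (Equiv.neg K)]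
    refine Finset.sum_congr rfl fun v _ => ?_
    show J (c (-v) • _) = -(c v • _)
    rw [map_smul, show c (-v) = -c v by rw [neg_eq_neg_one_mul, map_mul, hc1, neg_one_mul], neg_smul]
    congr 2
    rw [hJ, ← Module.End.mul_apply, ← map_mul, phi_apply]
    simp only [Equiv.neg_apply, a_gU, neg_zero, neg_neg, map_mul, Module.End.mul_apply, phi_apply]
  set A := LinearMap.ker (J - 1) with hA
  set B := LinearMap.ker (J + 1) with hB
  have memA : ∀ z, z ∈ A ↔ J z = z := fun z => by simp [hA, sub_eq_zero]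
  have memB : ∀ z, z ∈ B ↔ J z = -z := fun z => by simp [hB, add_eq_zero_iff_eq_neg]
  have hAB : IsCompl A B := by
    refine ⟨Submodule.disjoint_def.2 fun z hz hz' => ?_,
      codisjoint_iff.2 (Submodule.eq_top_iff'.2 fun z => ?_)⟩
    · have h : z = -z := ((memA z).1 hz).symm.trans ((memB z).1 hz')
      have h2 : (2 : ℂ) • z = 0 := by rw [two_smul]; exact add_eq_zero_iff_eq_neg.2 h
      exact (smul_eq_zero.1 h2).resolve_left two_ne_zero
    · refine Submodule.mem_sup.2 ⟨(2 : ℂ)⁻¹ • (z + J z), (memA _).2 ?_, (2 : ℂ)⁻¹ • (z - J z),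
        (memB _).2 ?_, ?_⟩
      · rw [map_smul, map_add, hJJ, add_comm]
      · rw [map_smul, map_sub, hJJ, ← smul_neg, neg_sub]
      · rw [← smul_add, add_add_sub_cancel, ← two_smul ℂ z, smul_smul, inv_mul_cancel₀ two_ne_zero,
          one_smul]
  have hdimAB : finrank ℂ A = finrank ℂ B := by
    refine le_antisymm ?_ ?_
    · exact LinearMap.finrank_le_finrank_of_injective
        (f := T.restrict fun z hz => (memB _).2 (by rw [hJT, (memA z).1 hz]))
        fun a b h => Subtype.ext (hTinj (congrArg Subtype.val h))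
    · exact LinearMap.finrank_le_finrank_of_injective
        (f := T.restrict fun z hz => (memA _).2 (by rw [hJT, (memB z).1 hz, map_neg, neg_neg]))
        fun a b h => Subtype.ext (hTinj (congrArg Subtype.val h))
  have hdet : LinearMap.det J = (-1) ^ finrank ℂ B := by
    let e := Submodule.prodEquivOfIsCompl A B hAB
    have he : J = e.toLinearMap ∘ₗ
        (LinearMap.prodMap LinearMap.id ((-1 : ℂ) • LinearMap.id)) ∘ₗ e.symm.toLinearMap := by
      refine LinearMap.ext fun z => ?_
      obtain ⟨⟨a, b⟩, rfl⟩ := e.surjective z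
      simp only [LinearMap.comp_apply, LinearEquiv.coe_coe, LinearEquiv.symm_apply_apply, e,
        Submodule.coe_prodEquivOfIsCompl', LinearMap.prodMap_apply, LinearMap.id_apply,
        LinearMap.smul_apply, Submodule.coe_smul, map_add, (memA _).1 a.2, (memB _).1 b.2,
        neg_one_smul]
      simp
    rw [he, LinearMap.det_conj, LinearMap.det_prodMap, LinearMap.det_id, one_mul,
      LinearMap.det_smul, LinearMap.det_id, mul_one]
  have hone : LinearMap.det J = 1 := by
    let f : G K m →* ℂˣ := (LinearMap.det.comp ρ).toHomUnits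
    have hker := Abelianization.commutator_subset_ker f
    rw [LieTwisted.Ree.perfectRee hF.out hm] at hker
    exact congrArg Units.val (MonoidHom.mem_ker.1 (hker (Subgroup.mem_top (gH (-1) : G K m))))
  have hodd : Odd (finrank ℂ B) := by
    have h := Submodule.finrank_add_eq_of_isCompl hAB
    rw [hdim, hdimAB] at h
    obtain ⟨j, hj⟩ : ∃ j, q = 4 * j + 3 := ⟨q / 4, by omega⟩
    rw [hj, show (4 * j + 3) * (4 * j + 3 - 1) = 2 * ((4 * j + 3) * (2 * j + 1)) by
      rw [show 4 * j + 3 - 1 = 2 * (2 * j + 1) by omega]; ring] at h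
    exact ⟨4 * j * j + 5 * j + 1, by linarith⟩
  rw [hone, hodd.neg_one_pow] at hdet
  norm_num at hdet

end Cfsg.Agent.Lib.ExcDeg48
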